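import Mathlib

/-!
S3928 farm (architect helper14): internal formulation.  `Γ` a finite group, `a : Γ` with
`a * a = 1` whose normal closure is `⊤`; `Ko a` = the odd-order elements inverted by `a`.
-/

set_option autoImplicit false

namespace Cfsg.Agent.Lib.Helper14.IA

/-- odd-order elements inverted by `a` -/
def Ko {Γ : Type*} [Group Γ] (a : Γ) : Set Γ := {x | Odd (orderOf x) ∧ a * x * a⁻¹ = x⁻¹}

/-- minimal normal subgroup -/
def IsMinNormal {Γ : Type*} [Group Γ] (N : Subgroup Γ) : Prop :=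
  N.Normal ∧ N ≠ ⊥ ∧ ∀ K : Subgroup Γ, K.Normal → K ≤ N → K = ⊥ ∨ K = N

end Cfsg.Agent.Lib.Helper14.IA
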