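import Mathlib
import Cfsg.Agent.Lib.Helper14.IA.Defs

set_option autoImplicit false

namespace Cfsg.Agent.Lib.Helper14.IA

open scoped Nat

variable {Γ : Type*} [Group Γ]

theorem one_mem_Ko (a : Γ) : (1 : Γ) ∈ Ko a := by
  refine ⟨by simp, by simp⟩

theorem pow_mem_Ko {a x : Γ} (hx : x ∈ Ko a) (k : ℕ) : x ^ k ∈ Ko a := by
  obtain ⟨ho, hi⟩ := hx
  refine ⟨?_, ?_⟩
  · have hd : orderOf (x ^ k) ∣ orderOf x := orderOf_pow_dvd k
    exact Odd.of_dvd_nat ho hd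
  · have : a * x ^ k * a⁻¹ = (a * x * a⁻¹) ^ k := by
      rw [conj_pow]
    rw [this, hi, inv_pow]

theorem inv_mem_Ko {a x : Γ} (hx : x ∈ Ko a) : x⁻¹ ∈ Ko a := by
  obtain ⟨ho, hi⟩ := hx
  refine ⟨by rwa [orderOf_inv], ?_⟩
  have : a * x⁻¹ * a⁻¹ = (a * x * a⁻¹)⁻¹ := by group
  rw [this, hi]

theorem conj_mem_Ko {a g x : Γ} (hg : g * a = a * g) (hx : x ∈ Ko a) : g * x * g⁻¹ ∈ Ko a := by
  obtain ⟨ho, hi⟩ := hx
  refine ⟨?_, ?_⟩
  · have : orderOf (g * x * g⁻¹) = orderOf x := by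
      have := orderOf_injective (MulAut.conj g).toMonoidHom (MulAut.conj g).injective x
      simpa [MulAut.conj_apply] using this
    rwa [this]
  · have h1 : a * g * a⁻¹ = g := by rw [← hg, mul_inv_cancel_right]
    have h2 : a * g⁻¹ * a⁻¹ = g⁻¹ := by
      have : a * g⁻¹ * a⁻¹ = (a * g * a⁻¹)⁻¹ := by group
      rw [this, h1]
    calc a * (g * x * g⁻¹) * a⁻¹ = (a * g * a⁻¹) * (a * x * a⁻¹) * (a * g⁻¹ * a⁻¹) := by group
      _ = g * x⁻¹ * g⁻¹ := by rw [h1, h2, hi]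
      _ = (g * x * g⁻¹)⁻¹ := by group

end Cfsg.Agent.Lib.Helper14.IA
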