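import Mathlib
import Cfsg.Agent.Lib.Helper14.IA.Defs
import Cfsg.Agent.Lib.Helper16.EngelGen

set_option autoImplicit false

namespace Cfsg.Agent.Lib.Helper14.IA

open scoped Nat

variable {Γ : Type*} [Group Γ]

namespace L01

open Cfsg.Agent.Lib.Helper16.EngelGen

theorem inv_eq_self {a : Γ} (ha : a * a = 1) : a⁻¹ = a := inv_eq_of_mul_eq_one_right ha

theorem comm_inverted {a : Γ} (ha : a * a = 1) (g : Γ) :
    a * (g * a * g⁻¹ * a⁻¹) * a⁻¹ = (g * a * g⁻¹ * a⁻¹)⁻¹ := by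
  have h := inv_eq_self ha
  have e1 : (g * a * g⁻¹ * a⁻¹)⁻¹ = a * g * a⁻¹ * g⁻¹ := by group
  rw [e1, h]
  calc a * (g * a * g⁻¹ * a) * a = a * g * a * g⁻¹ * (a * a) := by group
    _ = a * g * a * g⁻¹ := by rw [ha, mul_one]

theorem pow_inverted {a x : Γ} (hx : a * x * a⁻¹ = x⁻¹) (n : ℕ) :
    a * x ^ n * a⁻¹ = (x ^ n)⁻¹ := by
  rw [← conj_pow, hx, inv_pow]

theorem psi_step {a x : Γ} (hx : a * x * a⁻¹ = x⁻¹) : psi a (x * a) = x ^ 2 * a := by
  unfold psi
  have h1 : a * x⁻¹ * a⁻¹ = x := by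
    have := congrArg (fun t => t⁻¹) hx
    simp only [mul_inv_rev, inv_inv] at this
    rw [← mul_assoc] at this
    exact this
  calc x * a * a * (x * a)⁻¹ = x * (a * x⁻¹ * a⁻¹) * a := by group
    _ = x * x * a := by rw [h1]
    _ = x ^ 2 * a := by rw [pow_two]

theorem iterate_formula {a : Γ} (ha : a * a = 1) (g : Γ) (k : ℕ) :
    (psi a)^[k + 1] g = (g * a * g⁻¹ * a⁻¹) ^ (2 ^ k) * a := by
  induction k with
  | zero =>
    rw [Function.iterate_one, pow_zero, pow_one]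
    unfold psi
    group
  | succ k ih =>
    rw [Function.iterate_succ_apply', ih,
      psi_step (pow_inverted (comm_inverted ha g) (2 ^ k)), ← pow_mul, ← pow_succ]

theorem odd_orderOf_pow [Finite Γ] (c : Γ) : Odd (orderOf (c ^ (2 ^ Nat.card Γ))) := by
  have hpos : 0 < orderOf c := orderOf_pos c
  obtain ⟨s, m, hm, hsm⟩ := Nat.exists_eq_two_pow_mul_odd (Nat.pos_iff_ne_zero.mp hpos)
  have hle : orderOf c ≤ Nat.card Γ := orderOf_le_card
  have hs : s ≤ Nat.card Γ := by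
    have h1 : 2 ^ s ≤ orderOf c := by
      rw [hsm]
      exact Nat.le_mul_of_pos_right _ hm.pos
    have h2 : s < 2 ^ s := Nat.lt_two_pow_self
    omega
  have hdvd : orderOf (c ^ (2 ^ Nat.card Γ)) ∣ m := by
    apply orderOf_dvd_of_pow_eq_one
    rw [← pow_mul]
    obtain ⟨d, hd⟩ := Nat.exists_eq_add_of_le hs
    have : 2 ^ Nat.card Γ * m = orderOf c * 2 ^ d := by
      rw [hd, pow_add, hsm]
      ring
    rw [this, pow_mul, pow_orderOf_eq_one, one_pow]
  exact Odd.of_dvd_nat hm hdvd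

end L01

theorem gen [Finite Γ] (a : Γ) (ha : a * a = 1)
    (hncl : Subgroup.normalClosure ({a} : Set Γ) = ⊤) :
    Subgroup.closure (({a} : Set Γ) ∪ Ko a) = ⊤ := by
  have h := Cfsg.Agent.Lib.Helper16.EngelGen.gen a hncl (Nat.card Γ + 1)
  rw [eq_top_iff, ← h, Subgroup.closure_le]
  rintro y (hy | hy)
  · exact Subgroup.subset_closure (Or.inl hy)
  · obtain ⟨g, rfl⟩ := hy
    rw [L01.iterate_formula ha g (Nat.card Γ)]
    apply Subgroup.mul_mem
    · apply Subgroup.subset_closure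
      right
      refine ⟨L01.odd_orderOf_pow _, ?_⟩
      exact L01.pow_inverted (L01.comm_inverted ha g) _
    · exact Subgroup.subset_closure (Or.inl rfl)

end Cfsg.Agent.Lib.Helper14.IA
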