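import Mathlib
import Cfsg.Agent.Lib.Helper14.IA.L00Basic
import Cfsg.Agent.Lib.Helper14.IA.L01Gen

set_option autoImplicit false

namespace Cfsg.Agent.Lib.Helper14.IA

open scoped Nat

variable {Γ : Type*} [Group Γ]

theorem mem_center_of_comm [Finite Γ] (a : Γ) (ha : a * a = 1)
    (hncl : Subgroup.normalClosure ({a} : Set Γ) = ⊤) {g : Γ} (hga : g * a = a * g)
    (hgK : ∀ y ∈ Ko a, g * y = y * g) : g ∈ Subgroup.center Γ := by
  have hle : Subgroup.closure (({a} : Set Γ) ∪ Ko a) ≤ Subgroup.centralizer ({g} : Set Γ) := by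
    rw [Subgroup.closure_le]
    rintro x (hx | hx)
    · rw [Set.mem_singleton_iff] at hx
      subst hx
      rw [SetLike.mem_coe, Subgroup.mem_centralizer_iff]
      intro s hs
      rw [Set.mem_singleton_iff] at hs
      subst hs
      exact hga
    · rw [SetLike.mem_coe, Subgroup.mem_centralizer_iff]
      intro s hs
      rw [Set.mem_singleton_iff] at hs
      subst hs
      exact hgK x hx
  rw [gen a ha hncl] at hle
  rw [Subgroup.mem_center_iff]
  intro h
  have hh : h ∈ Subgroup.centralizer ({g} : Set Γ) := hle (Subgroup.mem_top h)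
  exact ((Subgroup.mem_centralizer_iff.mp hh) g rfl).symm

end Cfsg.Agent.Lib.Helper14.IA
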