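import Mathlib
import Cfsg.Agent.Lib.Helper14.IA.Defs

set_option autoImplicit false

namespace Cfsg.Agent.Lib.Helper14.IA

open scoped Nat

variable {Γ : Type*} [Group Γ]

theorem ncl_quotient (a : Γ) (N : Subgroup Γ) [N.Normal]
    (hncl : Subgroup.normalClosure ({a} : Set Γ) = ⊤) :
    Subgroup.normalClosure ({(QuotientGroup.mk a : Γ ⧸ N)} : Set (Γ ⧸ N)) = ⊤ := by
  have h := Subgroup.map_normalClosure ({a} : Set Γ) (QuotientGroup.mk' N)
    (QuotientGroup.mk'_surjective N)
  rw [hncl, Set.image_singleton, Subgroup.map_top_of_surjective _ (QuotientGroup.mk'_surjective N)]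
    at h
  exact h.symm

end Cfsg.Agent.Lib.Helper14.IA
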