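import Mathlib
import Cfsg.Agent.Lib.Helper14.IA.Defs

set_option autoImplicit false

namespace Cfsg.Agent.Lib.Helper14.IA

open scoped Nat

variable {Γ : Type*} [Group Γ]

theorem mk_mem_Ko (a : Γ) (N : Subgroup Γ) [N.Normal] {x : Γ} (hx : x ∈ Ko a) :
    (QuotientGroup.mk x : Γ ⧸ N) ∈ Ko (QuotientGroup.mk a : Γ ⧸ N) := by
  obtain ⟨ho, hi⟩ := hx
  refine ⟨?_, ?_⟩
  · have hd : orderOf ((QuotientGroup.mk' N) x) ∣ orderOf x := orderOf_map_dvd _ x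
    exact Odd.of_dvd_nat ho hd
  · rw [← QuotientGroup.mk_inv, ← QuotientGroup.mk_inv, ← QuotientGroup.mk_mul,
      ← QuotientGroup.mk_mul, hi]

end Cfsg.Agent.Lib.Helper14.IA
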