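import Mathlib
import Cfsg.Agent.Lib.Helper14.IA.L00Basic

set_option autoImplicit false

namespace Cfsg.Agent.Lib.Helper14.IA

open scoped Nat

variable {Γ : Type*} [Group Γ]

theorem lift [Finite Γ] (a : Γ) (ha : a * a = 1) (N : Subgroup Γ) [N.Normal] {xb : Γ ⧸ N}
    (hxb : xb ∈ Ko (QuotientGroup.mk a : Γ ⧸ N)) :
    ∃ x ∈ Ko a, (QuotientGroup.mk x : Γ ⧸ N) = xb := by
  obtain ⟨hodd, hinv⟩ := hxb
  have hainv : a⁻¹ = a := inv_eq_of_mul_eq_one_left ha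
  have hainv2 : a⁻¹ * a⁻¹ = 1 := by rw [hainv]; exact ha
  obtain ⟨r, hr⟩ := hodd
  -- a square root `yb` of `xb`, inverted by the image of `a`
  have hyb2 : xb ^ (r + 1) * xb ^ (r + 1) = xb := by
    rw [← pow_add]
    have h1 : r + 1 + (r + 1) = orderOf xb + 1 := by omega
    rw [h1, pow_succ, pow_orderOf_eq_one, one_mul]
  have hybinv : (QuotientGroup.mk a : Γ ⧸ N) * xb ^ (r + 1) * (QuotientGroup.mk a : Γ ⧸ N)⁻¹
      = (xb ^ (r + 1))⁻¹ := by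
    rw [← inv_pow, ← hinv, conj_pow]
  have hybinv' : (QuotientGroup.mk a : Γ ⧸ N) * (xb ^ (r + 1))⁻¹ * (QuotientGroup.mk a : Γ ⧸ N)⁻¹
      = xb ^ (r + 1) := by
    have h1 := congrArg (fun t => t⁻¹) hybinv
    simp only [mul_inv_rev, inv_inv] at h1
    rw [mul_assoc]; exact h1
  obtain ⟨y', hy'⟩ := QuotientGroup.mk_surjective (xb ^ (r + 1))
  -- `w = [y', a]` is inverted by `a` and maps to `xb`
  have hwinv : a * (y' * a * y'⁻¹ * a⁻¹) * a⁻¹ = (y' * a * y'⁻¹ * a⁻¹)⁻¹ := by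
    calc a * (y' * a * y'⁻¹ * a⁻¹) * a⁻¹ = a * y' * a * y'⁻¹ * (a⁻¹ * a⁻¹) := by group
      _ = a * y' * a * y'⁻¹ := by rw [hainv2, mul_one]
      _ = a * y' * a⁻¹ * y'⁻¹ := by rw [hainv]
      _ = (y' * a * y'⁻¹ * a⁻¹)⁻¹ := by group
  have hwimg : (QuotientGroup.mk (y' * a * y'⁻¹ * a⁻¹) : Γ ⧸ N) = xb := by
    simp only [QuotientGroup.mk_mul, QuotientGroup.mk_inv, hy']
    rw [mul_assoc, mul_assoc, ← mul_assoc (QuotientGroup.mk a : Γ ⧸ N), hybinv', hyb2]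
  generalize y' * a * y'⁻¹ * a⁻¹ = w at hwinv hwimg
  -- the odd part of `w`
  have hn0 : orderOf w ≠ 0 := (orderOf_pos w).ne'
  obtain ⟨s, t, htodd, hst⟩ := Nat.exists_eq_two_pow_mul_odd hn0
  have hoodd : Odd (orderOf xb) := ⟨r, hr⟩
  have hcop : Nat.Coprime (2 ^ s) (orderOf xb) :=
    Nat.Coprime.pow_left s (Nat.coprime_two_left.mpr hoodd)
  have hφ : 0 < Nat.totient (orderOf xb) := Nat.totient_pos.mpr (orderOf_pos xb)
  have hmod : (2 ^ s) ^ Nat.totient (orderOf xb) ≡ 1 [MOD orderOf xb] := Nat.ModEq.pow_totient hcop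
  have hdvd : 2 ^ s ∣ (2 ^ s) ^ Nat.totient (orderOf xb) := dvd_pow_self _ hφ.ne'
  refine ⟨w ^ ((2 ^ s) ^ Nat.totient (orderOf xb)), ⟨?_, ?_⟩, ?_⟩
  · -- odd order
    have h1 : (w ^ ((2 ^ s) ^ Nat.totient (orderOf xb))) ^ t = 1 := by
      rw [← pow_mul]
      apply orderOf_dvd_iff_pow_eq_one.mp
      rw [hst]
      exact Nat.mul_dvd_mul_right hdvd t
    exact Odd.of_dvd_nat htodd (orderOf_dvd_of_pow_eq_one h1)
  · rw [← inv_pow, ← hwinv, conj_pow]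
  · rw [QuotientGroup.mk_pow, hwimg]
    conv_rhs => rw [← pow_one xb]
    exact pow_eq_pow_iff_modEq.mpr hmod

end Cfsg.Agent.Lib.Helper14.IA
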