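import Mathlib
import Cfsg.Agent.Lib.Helper14.IA.L04MkMem
import Cfsg.Agent.Lib.Helper14.IA.L05Lift

set_option autoImplicit false

namespace Cfsg.Agent.Lib.Helper14.IA

open scoped Nat

variable {Γ : Type*} [Group Γ]

theorem ncard_quotient_le [Finite Γ] (a : Γ) (ha : a * a = 1) (N : Subgroup Γ) [N.Normal] :
    (Ko (QuotientGroup.mk a : Γ ⧸ N)).ncard ≤ (Ko a).ncard := by
  have heq : Ko (QuotientGroup.mk a : Γ ⧸ N) = (fun x : Γ => (QuotientGroup.mk x : Γ ⧸ N)) '' Ko a := by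
    ext xb
    constructor
    · intro hxb
      obtain ⟨x, hx, hxx⟩ := lift a ha N hxb
      exact ⟨x, hx, hxx⟩
    · rintro ⟨x, hx, rfl⟩
      exact mk_mem_Ko a N hx
  rw [heq]
  exact Set.ncard_image_le (Set.toFinite _)

end Cfsg.Agent.Lib.Helper14.IA
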