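import Mathlib
import Cfsg.Agent.Lib.Helper14.IA.L04MkMem
import Cfsg.Agent.Lib.Helper14.IA.L05Lift

set_option autoImplicit false

namespace Cfsg.Agent.Lib.Helper14.IA

open scoped Nat

variable {Γ : Type*} [Group Γ]

theorem ncard_quotient_lt [Finite Γ] (a : Γ) (ha : a * a = 1) (N : Subgroup Γ) [N.Normal]
    (h : ∃ x ∈ Ko a, ∃ y ∈ Ko a, x ≠ y ∧ x⁻¹ * y ∈ N) :
    (Ko (QuotientGroup.mk a : Γ ⧸ N)).ncard < (Ko a).ncard := by
  have heq : Ko (QuotientGroup.mk a : Γ ⧸ N) = (fun x : Γ => (QuotientGroup.mk x : Γ ⧸ N)) '' Ko a := by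
    ext xb
    constructor
    · intro hxb
      obtain ⟨x, hx, hxx⟩ := lift a ha N hxb
      exact ⟨x, hx, hxx⟩
    · rintro ⟨x, hx, rfl⟩
      exact mk_mem_Ko a N hx
  rw [heq]
  have hle : ((fun x : Γ => (QuotientGroup.mk x : Γ ⧸ N)) '' Ko a).ncard ≤ (Ko a).ncard :=
    Set.ncard_image_le (Set.toFinite _)
  refine lt_of_le_of_ne hle ?_
  intro hcard
  have hinj : Set.InjOn (fun x : Γ => (QuotientGroup.mk x : Γ ⧸ N)) (Ko a) :=
    (Set.ncard_image_iff (Set.toFinite _)).mp hcard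
  obtain ⟨x, hx, y, hy, hxy, hN⟩ := h
  exact hxy (hinj hx hy (QuotientGroup.eq.mpr hN))

end Cfsg.Agent.Lib.Helper14.IA
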