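import Mathlib
import Cfsg.Agent.Lib.Helper14.IA.Defs

set_option autoImplicit false

namespace Cfsg.Agent.Lib.Helper14.IA

open scoped Nat

variable {Γ : Type*} [Group Γ]

theorem exists_minNormal [Finite Γ] [Nontrivial Γ] : ∃ N : Subgroup Γ, IsMinNormal N := by
  have htop : (⊤ : Subgroup Γ) ≠ ⊥ := by
    intro h
    obtain ⟨x, hx⟩ := exists_ne (1 : Γ)
    have hx' : x ∈ (⊤ : Subgroup Γ) := trivial
    rw [h] at hx'
    exact hx (Subgroup.mem_bot.mp hx')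
  obtain ⟨N, ⟨hN, hNb⟩, hmin⟩ := WellFounded.has_min (wellFounded_lt (α := Subgroup Γ))
    {N : Subgroup Γ | N.Normal ∧ N ≠ ⊥} ⟨⊤, inferInstance, htop⟩
  refine ⟨N, hN, hNb, fun K hK hKN => ?_⟩
  by_cases hKb : K = ⊥
  · exact Or.inl hKb
  · exact Or.inr (eq_of_le_of_not_lt hKN (hmin K ⟨hK, hKb⟩))

end Cfsg.Agent.Lib.Helper14.IA
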