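import Mathlib
import Cfsg.Agent.Lib.Helper14.IA.Defs

set_option autoImplicit false

namespace Cfsg.Agent.Lib.Helper14.IA

open scoped Nat

variable {Γ : Type*} [Group Γ]

theorem exists_not_comm [Finite Γ] (a : Γ)
    (hncl : Subgroup.normalClosure ({a} : Set Γ) = ⊤) {N : Subgroup Γ} (hN : IsMinNormal N)
    (hNc : ¬ N ≤ Subgroup.center Γ) : ∃ v ∈ N, a * v ≠ v * a := by
  by_contra hcon
  push Not at hcon
  apply hNc
  have : N.Normal := hN.1
  have ha : a ∈ Subgroup.centralizer (N : Set Γ) := by
    rw [Subgroup.mem_centralizer_iff]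
    intro v hv
    exact (hcon v hv).symm
  have hle : Subgroup.normalClosure ({a} : Set Γ) ≤ Subgroup.centralizer (N : Set Γ) :=
    Subgroup.normalClosure_le_normal (by simpa using ha)
  rw [hncl] at hle
  intro v hv
  rw [Subgroup.mem_center_iff]
  intro g
  have hg := hle (Subgroup.mem_top g)
  rw [Subgroup.mem_centralizer_iff] at hg
  exact (hg v hv).symm

end Cfsg.Agent.Lib.Helper14.IA
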