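import Mathlib
import Cfsg.Agent.Lib.Helper14.IA.Defs

set_option autoImplicit false

namespace Cfsg.Agent.Lib.Helper14.IA

open scoped Nat

variable {Γ : Type*} [Group Γ]

namespace L13

/-- in an abelian minimal normal subgroup every element has order dividing any prime dividing its order -/
theorem pow_eq_one_of_dvd_card [Finite Γ] {N : Subgroup Γ} (hN : IsMinNormal N)
    (hab : ∀ u ∈ N, ∀ v ∈ N, u * v = v * u) {p : ℕ} (hp : p.Prime) (hdvd : p ∣ Nat.card ↥N) :
    ∀ v ∈ N, v ^ p = 1 := by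
  classical
  have hNn : N.Normal := hN.1
  let K : Subgroup Γ :=
    { carrier := {v | v ∈ N ∧ v ^ p = 1}
      one_mem' := ⟨N.one_mem, one_pow p⟩
      mul_mem' := by
        rintro u v ⟨hu, hu1⟩ ⟨hv, hv1⟩
        refine ⟨N.mul_mem hu hv, ?_⟩
        have hc : Commute u v := hab u hu v hv
        rw [hc.mul_pow, hu1, hv1, one_mul]
      inv_mem' := by
        rintro u ⟨hu, hu1⟩
        exact ⟨N.inv_mem hu, by rw [inv_pow, hu1, inv_one]⟩ }
  have hKmem : ∀ v : Γ, v ∈ K ↔ (v ∈ N ∧ v ^ p = 1) := fun v => Iff.rfl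
  have hKn : K.Normal := by
    constructor
    intro v hv g
    obtain ⟨hvN, hv1⟩ := (hKmem v).1 hv
    refine (hKmem _).2 ⟨hNn.conj_mem v hvN g, ?_⟩
    rw [conj_pow, hv1]; group
  have hKle : K ≤ N := fun v hv => ((hKmem v).1 hv).1
  have hKne : K ≠ ⊥ := by
    haveI : Fact p.Prime := ⟨hp⟩
    obtain ⟨x, hx⟩ := exists_prime_orderOf_dvd_card' p hdvd
    intro hK
    have hxK : (x : Γ) ∈ K := by
      refine (hKmem _).2 ⟨x.2, ?_⟩
      have : x ^ p = 1 := by rw [← hx]; exact pow_orderOf_eq_one x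
      have h2 := congrArg Subtype.val this
      simpa using h2
    rw [hK, Subgroup.mem_bot] at hxK
    have hx1 : x = 1 := Subtype.ext hxK
    rw [hx1, orderOf_one] at hx
    exact hp.one_lt.ne hx
  rcases hN.2.2 K hKn hKle with h | h
  · exact absurd h hKne
  · intro v hv
    have : v ∈ K := by rw [h]; exact hv
    exact ((hKmem v).1 this).2

end L13

theorem abelian_elementary [Finite Γ] {N : Subgroup Γ} (hN : IsMinNormal N)
    (hab : ∀ u ∈ N, ∀ v ∈ N, u * v = v * u) : ∃ p : ℕ, p.Prime ∧ ∀ v ∈ N, v ^ p = 1 := by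
  classical
  have hne : N ≠ ⊥ := hN.2.1
  have hcard : Nat.card ↥N ≠ 1 := by
    intro h
    exact hne (Subgroup.card_eq_one.mp h)
  refine ⟨(Nat.card ↥N).minFac, Nat.minFac_prime hcard, ?_⟩
  exact L13.pow_eq_one_of_dvd_card hN hab (Nat.minFac_prime hcard) (Nat.minFac_dvd _)

end Cfsg.Agent.Lib.Helper14.IA
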