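import Mathlib
import Cfsg.Agent.Lib.Helper14.IA.Defs
import Cfsg.Agent.Lib.Helper14.IA.L13AbElem

set_option autoImplicit false

namespace Cfsg.Agent.Lib.Helper14.IA

open scoped Nat

variable {Γ : Type*} [Group Γ]

theorem twoGroup_elementary [Finite Γ] {N : Subgroup Γ} (hN : IsMinNormal N)
    (h2 : IsPGroup 2 ↥N) : ∀ v ∈ N, v * v = 1 := by
  classical
  have hNn : N.Normal := hN.1
  have hne : N ≠ ⊥ := hN.2.1
  haveI : Fact (Nat.Prime 2) := ⟨Nat.prime_two⟩
  -- the centre of N as a subgroup of Γ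
  let Z : Subgroup Γ :=
    { carrier := {z | z ∈ N ∧ ∀ n ∈ N, z * n = n * z}
      one_mem' := ⟨N.one_mem, fun n _ => by rw [one_mul, mul_one]⟩
      mul_mem' := by
        rintro u v ⟨hu, hu1⟩ ⟨hv, hv1⟩
        refine ⟨N.mul_mem hu hv, fun n hn => ?_⟩
        calc u * v * n = u * (v * n) := by group
          _ = u * (n * v) := by rw [hv1 n hn]
          _ = (u * n) * v := by group
          _ = (n * u) * v := by rw [hu1 n hn]
          _ = n * (u * v) := by group
      inv_mem' := by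
        rintro u ⟨hu, hu1⟩
        refine ⟨N.inv_mem hu, fun n hn => ?_⟩
        have := hu1 n hn
        calc u⁻¹ * n = u⁻¹ * (n * u) * u⁻¹ := by group
          _ = u⁻¹ * (u * n) * u⁻¹ := by rw [this]
          _ = n * u⁻¹ := by group }
  have hZmem : ∀ z : Γ, z ∈ Z ↔ (z ∈ N ∧ ∀ n ∈ N, z * n = n * z) := fun z => Iff.rfl
  have hZn : Z.Normal := by
    constructor
    intro z hz g
    obtain ⟨hzN, hz1⟩ := (hZmem z).1 hz
    refine (hZmem _).2 ⟨hNn.conj_mem z hzN g, fun n hn => ?_⟩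
    have hn' : g⁻¹ * n * g⁻¹⁻¹ ∈ N := hNn.conj_mem n hn g⁻¹
    have := hz1 _ hn'
    calc g * z * g⁻¹ * n = g * (z * (g⁻¹ * n * g⁻¹⁻¹)) * g⁻¹ := by group
      _ = g * ((g⁻¹ * n * g⁻¹⁻¹) * z) * g⁻¹ := by rw [this]
      _ = n * (g * z * g⁻¹) := by group
  have hZle : Z ≤ N := fun z hz => ((hZmem z).1 hz).1
  have hZne : Z ≠ ⊥ := by
    haveI : Nontrivial ↥N := by
      rw [Subgroup.nontrivial_iff_ne_bot]
      exact hne
    haveI := h2.center_nontrivial
    obtain ⟨z, hz1⟩ := exists_ne (1 : ↥(Subgroup.center ↥N))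
    intro hZ
    have hzZ : ((z : ↥N) : Γ) ∈ Z := by
      refine (hZmem _).2 ⟨(z : ↥N).2, fun n hn => ?_⟩
      have := Subgroup.mem_center_iff.mp z.2 ⟨n, hn⟩
      have h3 := congrArg Subtype.val this
      simpa using h3.symm
    rw [hZ, Subgroup.mem_bot] at hzZ
    apply hz1
    apply Subtype.ext
    apply Subtype.ext
    simpa using hzZ
  have hZN : Z = N := by
    rcases hN.2.2 Z hZn hZle with h | h
    · exact absurd h hZne
    · exact h
  have hab : ∀ u ∈ N, ∀ v ∈ N, u * v = v * u := by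
    intro u hu v hv
    have : u ∈ Z := by rw [hZN]; exact hu
    exact ((hZmem u).1 this).2 v hv
  have hdvd : 2 ∣ Nat.card ↥N := by
    obtain ⟨k, hk⟩ := IsPGroup.iff_card.mp h2
    have hk0 : k ≠ 0 := by
      intro h0
      rw [h0, pow_zero] at hk
      exact hne (Subgroup.card_eq_one.mp hk)
    rw [hk]
    exact dvd_pow_self 2 hk0
  intro v hv
  have := L13.pow_eq_one_of_dvd_card hN hab Nat.prime_two hdvd v hv
  rw [pow_two] at this
  exact this

end Cfsg.Agent.Lib.Helper14.IA
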