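import Mathlib
import Cfsg.Agent.Lib.Helper14.IA.L00Basic
import Cfsg.Agent.Lib.Helper14.IA.L01Gen
import Cfsg.Agent.Lib.Helper14.IA.L02Center

set_option autoImplicit false

namespace Cfsg.Agent.Lib.Helper14.IA

open scoped Nat

variable {Γ : Type*} [Group Γ]

theorem two_case [Finite Γ] (a : Γ) (ha : a * a = 1)
    (hncl : Subgroup.normalClosure ({a} : Set Γ) = ⊤) {N : Subgroup Γ} (hN : IsMinNormal N)
    (hNc : ¬ N ≤ Subgroup.center Γ) (h2 : ∀ v ∈ N, v * v = 1) :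
    ∃ x ∈ Ko a, ∃ y ∈ Ko a, x ≠ y ∧ x⁻¹ * y ∈ N := by
  classical
  have hNn : N.Normal := hN.1
  have := hNn
  have hainv : a⁻¹ = a := inv_eq_of_mul_eq_one_left ha
  have hvinv : ∀ v ∈ N, v⁻¹ = v := fun v hv => inv_eq_of_mul_eq_one_left (h2 v hv)
  have hab : ∀ u ∈ N, ∀ v ∈ N, u * v = v * u := by
    intro u hu v hv
    have h := h2 (u * v) (N.mul_mem hu hv)
    have h' : u * v = (u * v)⁻¹ := (inv_eq_of_mul_eq_one_left h).symm
    rw [h', mul_inv_rev, hvinv u hu, hvinv v hv]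
  -- θ v = v * (a v a⁻¹) is fixed by a
  have hθfix : ∀ v ∈ N, a * (v * (a * v * a⁻¹)) = (v * (a * v * a⁻¹)) * a := by
    intro v hv
    have hva : a * v * a⁻¹ ∈ N := hNn.conj_mem v hv a
    have hc := hab v hv _ hva
    rw [hainv] at hc ⊢
    calc a * (v * (a * v * a)) = (a * v * a * v) * a := by simp only [mul_assoc]
      _ = (v * (a * v * a)) * a := by rw [← hc]
  -- Step A: some y ∈ Ko a does not centralize N
  have hA : ∃ y ∈ Ko a, ∃ u ∈ N, y * u ≠ u * y := by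
    by_contra hcon
    push Not at hcon
    apply hN.2.1
    rw [Subgroup.eq_bot_iff_forall]
    intro v hv
    have hmeet : N ⊓ Subgroup.center Γ = ⊥ := by
      rcases hN.2.2 (N ⊓ Subgroup.center Γ) inferInstance inf_le_left with h | h
      · exact h
      · exact absurd (inf_eq_left.mp h) hNc
    have hcentral : ∀ w ∈ N, w * a = a * w → w = 1 := by
      intro w hw hwa
      have hwc : w ∈ Subgroup.center Γ :=
        mem_center_of_comm a ha hncl hwa (fun y hy => (hcon y hy w hw).symm)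
      have hmem : w ∈ N ⊓ Subgroup.center Γ := ⟨hw, hwc⟩
      rw [hmeet] at hmem
      exact Subgroup.mem_bot.mp hmem
    have hva : a * v * a⁻¹ ∈ N := hNn.conj_mem v hv a
    have ht1 := hcentral (v * (a * v * a⁻¹)) (N.mul_mem hv hva) (hθfix v hv).symm
    have h3 : a * v * a⁻¹ = v := by
      have h4 : a * v * a⁻¹ = v⁻¹ := (inv_eq_of_mul_eq_one_right ht1).symm
      rw [h4, hvinv v hv]
    apply hcentral v hv
    have h5 := congrArg (· * a) h3
    simpa using h5.symm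
  obtain ⟨y, hy, u, hu, hyu⟩ := hA
  by_contra hcon
  push Not at hcon
  have hstar : ∀ v ∈ N, (v * (a * v * a⁻¹)) * y = y * (v * (a * v * a⁻¹)) → v * y = y * v := by
    intro v hv hθ
    by_contra hne
    have hord : orderOf (v * y * v⁻¹) = orderOf y := by
      simpa using (MulAut.conj v).orderOf_eq y
    have hinvd : a * (v * y * v⁻¹) * a⁻¹ = (v * y * v⁻¹)⁻¹ := by
      have hc : Commute (v * (a * v * a⁻¹)) y := hθ
      have e1 : a * (v * y * v⁻¹) * a⁻¹ = (a * v * a⁻¹) * (a * y * a⁻¹) * (a * v * a⁻¹)⁻¹ := by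
        group
      have e2 : (v * y * v⁻¹)⁻¹ = v * y⁻¹ * v⁻¹ := by group
      rw [e1, e2, hy.2]
      calc (a * v * a⁻¹) * y⁻¹ * (a * v * a⁻¹)⁻¹
          = v⁻¹ * ((v * (a * v * a⁻¹)) * y⁻¹) * (a * v * a⁻¹)⁻¹ := by group
        _ = v⁻¹ * (y⁻¹ * (v * (a * v * a⁻¹))) * (a * v * a⁻¹)⁻¹ := by rw [hc.inv_right.eq]
        _ = v⁻¹ * y⁻¹ * v := by group
        _ = v * y⁻¹ * v⁻¹ := by rw [hvinv v hv]
    have hy'K : v * y * v⁻¹ ∈ Ko a := ⟨by rw [hord]; exact hy.1, hinvd⟩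
    have hne' : y ≠ v * y * v⁻¹ := by
      intro heq
      apply hne
      have h6 := congrArg (· * v) heq
      simpa using h6.symm
    have hmemN : y⁻¹ * (v * y * v⁻¹) ∈ N := by
      have h7 : y⁻¹ * (v * y * v⁻¹) = (y⁻¹ * v * y⁻¹⁻¹) * v⁻¹ := by group
      rw [h7]
      exact N.mul_mem (hNn.conj_mem v hv y⁻¹) (N.inv_mem hv)
    exact hcon y hy _ hy'K hne' hmemN
  have hCa : ∀ w ∈ N, a * w = w * a → w * y = y * w := by
    intro w hw hwa
    apply hstar w hw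
    have h8 : a * w * a⁻¹ = w := by rw [hwa, mul_assoc, mul_inv_cancel, mul_one]
    rw [h8, h2 w hw, one_mul, mul_one]
  have hva : a * u * a⁻¹ ∈ N := hNn.conj_mem u hu a
  have h9 := hCa (u * (a * u * a⁻¹)) (N.mul_mem hu hva) (hθfix u hu)
  exact hyu (hstar u hu h9).symm

end Cfsg.Agent.Lib.Helper14.IA
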