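import Mathlib
import Cfsg.Agent.Lib.Helper14.IA.Defs

set_option autoImplicit false

namespace Cfsg.Agent.Lib.Helper14.IA

open scoped Nat

variable {Γ : Type*} [Group Γ]

namespace L14

/-- in a finite commutative group of exponent `p`, `k` elements generate at most `p ^ k` elements -/
theorem card_closure_le {A : Type*} [CommGroup A] [Finite A] {p : ℕ} (hp : p.Prime)
    (hexp : ∀ v : A, v ^ p = 1) (T : Finset A) :
    Nat.card (Subgroup.closure (T : Set A)) ≤ p ^ T.card := by
  classical
  induction T using Finset.induction_on with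
  | empty => simp
  | insert s T hs ih =>
    rw [Finset.coe_insert, Set.insert_eq, Subgroup.closure_union, Finset.card_insert_of_notMem hs,
      pow_succ']
    have h2 : Nat.card (Subgroup.closure ({s} : Set A)) ≤ p := by
      rw [← Subgroup.zpowers_eq_closure, Nat.card_zpowers]
      exact Nat.le_of_dvd hp.pos (orderOf_dvd_of_pow_eq_one (hexp s))
    have h1 : Nat.card ↥(Subgroup.closure ({s} : Set A) ⊔ Subgroup.closure (T : Set A)) ≤
        Nat.card (Subgroup.closure ({s} : Set A)) * Nat.card (Subgroup.closure (T : Set A)) := by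
      rw [← Nat.card_prod]
      let f : ↥(Subgroup.closure ({s} : Set A)) × ↥(Subgroup.closure (T : Set A)) →
          ↥(Subgroup.closure ({s} : Set A) ⊔ Subgroup.closure (T : Set A)) :=
        fun x => ⟨(x.1 : A) * (x.2 : A), Subgroup.mul_mem _ (Subgroup.mem_sup_left x.1.2)
          (Subgroup.mem_sup_right x.2.2)⟩
      refine Nat.card_le_card_of_surjective f ?_
      rintro ⟨x, hx⟩
      obtain ⟨y, hy, z, hz, rfl⟩ := Subgroup.mem_sup.mp hx
      exact ⟨(⟨y, hy⟩, ⟨z, hz⟩), rfl⟩
    exact h1.trans (Nat.mul_le_mul h2 ih)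

end L14

theorem abelian_card_le [Finite Γ] {N : Subgroup Γ} (hN : IsMinNormal N)
    (hab : ∀ u ∈ N, ∀ v ∈ N, u * v = v * u) {p : ℕ} (hp : p.Prime)
    (hexp : ∀ v ∈ N, v ^ p = 1) {b : ℕ} (hb : N.index ≤ b) : Nat.card N ≤ p ^ b := by
  classical
  obtain ⟨hNn, hN1, hNmin⟩ := hN
  have := hNn
  -- a nontrivial element
  obtain ⟨v, hvN, hv1⟩ : ∃ v ∈ N, v ≠ 1 := by
    by_contra hcon
    push Not at hcon
    exact hN1 ((Subgroup.eq_bot_iff_forall N).mpr hcon)
  have hncl : Subgroup.normalClosure ({v} : Set Γ) = N := by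
    have hle : Subgroup.normalClosure ({v} : Set Γ) ≤ N :=
      Subgroup.normalClosure_le_normal (by simpa using hvN)
    rcases hNmin _ Subgroup.normalClosure_normal hle with h | h
    · exfalso
      have : v ∈ Subgroup.normalClosure ({v} : Set Γ) :=
        Subgroup.subset_normalClosure (Set.mem_singleton v)
      rw [h, Subgroup.mem_bot] at this
      exact hv1 this
    · exact h
  -- commutative group structure on N
  letI : CommGroup N := { (inferInstance : Group N) with
    mul_comm := fun x y => Subtype.ext (hab x x.2 y y.2) }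
  have hexp' : ∀ w : N, w ^ p = 1 := fun w => Subtype.ext (by simpa using hexp w w.2)
  -- conjugates of v, parametrised by Γ ⧸ N
  have hwd : ∀ g g' : Γ, g⁻¹ * g' ∈ N → g * v * g⁻¹ = g' * v * g'⁻¹ := by
    intro g g' h
    have hc : (g⁻¹ * g') * v = v * (g⁻¹ * g') := hab _ h _ hvN
    have : g' = g * (g⁻¹ * g') := by group
    rw [this]
    calc g * v * g⁻¹ = g * (v * (g⁻¹ * g')) * (g⁻¹ * g')⁻¹ * g⁻¹ := by group
      _ = g * ((g⁻¹ * g') * v) * (g⁻¹ * g')⁻¹ * g⁻¹ := by rw [hc]
      _ = g * (g⁻¹ * g') * v * (g * (g⁻¹ * g'))⁻¹ := by group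
  have hmemN : ∀ g : Γ, g * v * g⁻¹ ∈ N := fun g => hNn.conj_mem v hvN g
  let c : Γ ⧸ N → N := fun q => Quotient.liftOn' q (fun g => (⟨g * v * g⁻¹, hmemN g⟩ : N))
    (fun g g' h => Subtype.ext (hwd g g' (QuotientGroup.leftRel_apply.mp h)))
  have hc_mk : ∀ g : Γ, ((c (QuotientGroup.mk g) : N) : Γ) = g * v * g⁻¹ := fun g => rfl
  have : Fintype (Γ ⧸ N) := Fintype.ofFinite _
  let T : Finset N := Finset.univ.image c
  have hTcard : T.card ≤ b := by
    refine (Finset.card_image_le).trans ?_
    rw [Finset.card_univ, ← Nat.card_eq_fintype_card]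
    exact hb
  -- closure of T is everything
  have hcl : Subgroup.closure (T : Set N) = ⊤ := by
    rw [eq_top_iff]
    intro x _
    have hx : (x : Γ) ∈ Subgroup.normalClosure ({v} : Set Γ) := by rw [hncl]; exact x.2
    -- normal closure ≤ map of closure T
    have hle : Subgroup.normalClosure ({v} : Set Γ) ≤ (Subgroup.closure (T : Set N)).map N.subtype := by
      rw [Subgroup.normalClosure, Subgroup.closure_le]
      intro y hy
      rw [Group.mem_conjugatesOfSet_iff] at hy
      obtain ⟨w, hw, hwy⟩ := hy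
      rw [Set.mem_singleton_iff] at hw
      subst hw
      rw [isConj_iff] at hwy
      obtain ⟨g, rfl⟩ := hwy
      refine ⟨c (QuotientGroup.mk g), Subgroup.subset_closure ?_, hc_mk g⟩
      simp only [T, Finset.coe_image, Finset.coe_univ, Set.image_univ, Set.mem_range]
      exact ⟨_, rfl⟩
    obtain ⟨y, hy, hyx⟩ := hle hx
    have : y = x := Subtype.ext hyx
    rw [← this]
    exact hy
  have h1 := L14.card_closure_le hp hexp' T
  rw [hcl] at h1
  have h2 : Nat.card (⊤ : Subgroup N) = Nat.card N := Subgroup.card_top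
  rw [h2] at h1
  exact h1.trans (Nat.pow_le_pow_right hp.pos hTcard)

end Cfsg.Agent.Lib.Helper14.IA
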