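import Mathlib
import Cfsg.Agent.Lib.Helper14.IA.L00Basic
import Cfsg.Agent.Lib.Helper14.IA.L09NotComm

set_option autoImplicit false

namespace Cfsg.Agent.Lib.Helper14.IA

open scoped Nat

variable {Γ : Type*} [Group Γ]

theorem abelian_prime_le [Finite Γ] (a : Γ) (ha : a * a = 1)
    (hncl : Subgroup.normalClosure ({a} : Set Γ) = ⊤) {N : Subgroup Γ} (hN : IsMinNormal N)
    (hNc : ¬ N ≤ Subgroup.center Γ) (hab : ∀ u ∈ N, ∀ v ∈ N, u * v = v * u) {p : ℕ}
    (hp : p.Prime) (hexp : ∀ v ∈ N, v ^ p = 1) : p ≤ max 2 (Ko a).ncard := by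
  classical
  by_cases hp2 : p = 2
  · rw [hp2]; exact le_max_left _ _
  refine le_trans ?_ (le_max_right _ _)
  have hpodd : Odd p := hp.odd_of_ne_two hp2
  have hainv : a⁻¹ = a := by
    have : a * a = a * a⁻¹ := by rw [ha, mul_inv_cancel]
    exact (mul_left_cancel this).symm
  obtain ⟨v, hvN, hav⟩ := exists_not_comm a hncl hN hNc
  have hNn : N.Normal := hN.1
  -- x = v⁻¹ * (a v a⁻¹)
  obtain ⟨x, hx⟩ : ∃ x, x = v⁻¹ * (a * v * a⁻¹) := ⟨_, rfl⟩
  have hxN : x ∈ N := by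
    rw [hx]; exact N.mul_mem (N.inv_mem hvN) (hNn.conj_mem v hvN a)
  have hx1 : x ≠ 1 := by
    intro h
    apply hav
    have h1 : a * v * a⁻¹ = v := by
      calc a * v * a⁻¹ = v * (v⁻¹ * (a * v * a⁻¹)) := by group
        _ = v := by rw [← hx, h, mul_one]
    calc a * v = (a * v * a⁻¹) * a := by group
      _ = v * a := by rw [h1]
  have hxp : x ^ p = 1 := hexp x hxN
  haveI : Fact p.Prime := ⟨hp⟩
  have hord : orderOf x = p := orderOf_eq_prime hxp hx1
  have hxinv : a * x * a⁻¹ = x⁻¹ := by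
    rw [hx, hainv]
    have e : (v⁻¹ * (a * v * a))⁻¹ = a⁻¹ * v⁻¹ * a⁻¹ * v := by group
    rw [e, hainv]
    calc a * (v⁻¹ * (a * v * a)) * a = a * v⁻¹ * a * v * (a * a) := by group
      _ = a * v⁻¹ * a * v := by rw [ha, mul_one]
  have hxKo : x ∈ Ko a := ⟨by rw [hord]; exact hpodd, hxinv⟩
  -- the p powers of x are distinct elements of Ko a
  have hsub : (Set.range fun i : Fin p => x ^ (i : ℕ)) ⊆ Ko a := by
    rintro _ ⟨i, rfl⟩
    exact pow_mem_Ko hxKo _
  have hinj : Function.Injective fun i : Fin p => x ^ (i : ℕ) := by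
    intro i k hik
    apply Fin.ext
    have hi : (i : ℕ) < orderOf x := by rw [hord]; exact i.2
    have hk : (k : ℕ) < orderOf x := by rw [hord]; exact k.2
    exact pow_injOn_Iio_orderOf hi hk hik
  have hfin : (Ko a).Finite := Set.toFinite _
  calc p = Nat.card (Fin p) := by simp
    _ = (Set.range fun i : Fin p => x ^ (i : ℕ)).ncard := by
      rw [← Nat.card_coe_set_eq]
      exact (Nat.card_congr (Equiv.ofInjective _ hinj))
    _ ≤ (Ko a).ncard := Set.ncard_le_ncard hsub hfin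

end Cfsg.Agent.Lib.Helper14.IA
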