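import Mathlib
import Cfsg.Agent.Lib.Helper14.IA.Defs

set_option autoImplicit false

namespace Cfsg.Agent.Lib.Helper14.IA

open scoped Nat

variable {Γ : Type*} [Group Γ]

theorem inf_centralizer_eq_bot [Finite Γ] {N : Subgroup Γ} (hN : IsMinNormal N)
    (hnab : ¬ ∀ u ∈ N, ∀ v ∈ N, u * v = v * u) :
    N ⊓ Subgroup.centralizer (N : Set Γ) = ⊥ := by
  obtain ⟨hNn, hN1, hmin⟩ := hN
  haveI := hNn
  have hK : (N ⊓ Subgroup.centralizer (N : Set Γ)).Normal := inferInstance
  rcases hmin _ hK inf_le_left with h | h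
  · exact h
  · exfalso
    apply hnab
    intro u hu v hv
    have hu' : u ∈ N ⊓ Subgroup.centralizer (N : Set Γ) := by rw [h]; exact hu
    have := (Subgroup.mem_centralizer_iff.mp hu'.2) v hv
    exact this.symm

end Cfsg.Agent.Lib.Helper14.IA
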