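import Mathlib
import Cfsg.Agent.Lib.Helper14.IA.L00Basic
import Cfsg.Agent.Lib.Helper14.IA.L02Center

set_option autoImplicit false

namespace Cfsg.Agent.Lib.Helper14.IA

open scoped Nat

variable {Γ : Type*} [Group Γ]

theorem card_centralizer_le [Finite Γ] (a : Γ) (ha : a * a = 1)
    (hncl : Subgroup.normalClosure ({a} : Set Γ) = ⊤) {N : Subgroup Γ}
    (hNZ : N ⊓ Subgroup.center Γ = ⊥) :
    Nat.card ↥(N ⊓ Subgroup.centralizer ({a} : Set Γ)) ≤ ((Ko a).ncard)! := by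
  classical
  have hmemC : ∀ g : ↥(N ⊓ Subgroup.centralizer ({a} : Set Γ)), (g : Γ) * a = a * (g : Γ) :=
    fun g => Subgroup.mem_centralizer_singleton_iff.mp g.2.2
  have hmemC' : ∀ g : ↥(N ⊓ Subgroup.centralizer ({a} : Set Γ)),
      (g : Γ)⁻¹ * a = a * (g : Γ)⁻¹ := by
    intro g
    have h := hmemC g
    calc (g : Γ)⁻¹ * a = (g : Γ)⁻¹ * (a * g) * (g : Γ)⁻¹ := by group
      _ = (g : Γ)⁻¹ * (g * a) * (g : Γ)⁻¹ := by rw [h]
      _ = a * (g : Γ)⁻¹ := by group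
  let F0 : ↥(N ⊓ Subgroup.centralizer ({a} : Set Γ)) → Equiv.Perm ↥(Ko a) := fun g =>
    { toFun := fun x => ⟨(g : Γ) * x * (g : Γ)⁻¹, conj_mem_Ko (hmemC g) x.2⟩
      invFun := fun x => ⟨(g : Γ)⁻¹ * x * (g : Γ), by
        have h := conj_mem_Ko (hmemC' g) x.2
        rwa [inv_inv] at h⟩
      left_inv := fun x => Subtype.ext (by
        show (g : Γ)⁻¹ * ((g : Γ) * x * (g : Γ)⁻¹) * (g : Γ) = x
        group)
      right_inv := fun x => Subtype.ext (by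
        show (g : Γ) * ((g : Γ)⁻¹ * x * (g : Γ)) * (g : Γ)⁻¹ = x
        group) }
  have hinj : Function.Injective F0 := by
    intro g g' h
    have h1 : ∀ y ∈ Ko a, (g : Γ) * y * (g : Γ)⁻¹ = (g' : Γ) * y * (g' : Γ)⁻¹ := by
      intro y hy
      exact congrArg (fun σ : Equiv.Perm ↥(Ko a) => ((σ ⟨y, hy⟩ : ↥(Ko a)) : Γ)) h
    have h2 : ((g' : Γ)⁻¹ * (g : Γ)) ∈ Subgroup.center Γ := by
      apply mem_center_of_comm a ha hncl
      · calc (g' : Γ)⁻¹ * (g : Γ) * a = (g' : Γ)⁻¹ * ((g : Γ) * a) := by group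
          _ = (g' : Γ)⁻¹ * (a * (g : Γ)) := by rw [hmemC g]
          _ = ((g' : Γ)⁻¹ * a) * (g : Γ) := by group
          _ = (a * (g' : Γ)⁻¹) * (g : Γ) := by rw [hmemC' g']
          _ = a * ((g' : Γ)⁻¹ * (g : Γ)) := by group
      · intro y hy
        have h3 := h1 y hy
        calc (g' : Γ)⁻¹ * (g : Γ) * y = (g' : Γ)⁻¹ * ((g : Γ) * y * (g : Γ)⁻¹) * (g : Γ) := by group
          _ = (g' : Γ)⁻¹ * ((g' : Γ) * y * (g' : Γ)⁻¹) * (g : Γ) := by rw [h3]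
          _ = y * ((g' : Γ)⁻¹ * (g : Γ)) := by group
    have h3 : (g' : Γ)⁻¹ * (g : Γ) ∈ N ⊓ Subgroup.center Γ :=
      ⟨N.mul_mem (N.inv_mem g'.2.1) g.2.1, h2⟩
    rw [hNZ, Subgroup.mem_bot] at h3
    apply Subtype.ext
    exact (inv_mul_eq_one.mp h3).symm
  calc Nat.card ↥(N ⊓ Subgroup.centralizer ({a} : Set Γ))
      ≤ Nat.card (Equiv.Perm ↥(Ko a)) := Nat.card_le_card_of_injective F0 hinj
    _ = (Nat.card ↥(Ko a))! := Nat.card_perm
    _ = ((Ko a).ncard)! := by rw [Nat.card_coe_set_eq]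

end Cfsg.Agent.Lib.Helper14.IA
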