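import Mathlib
import Cfsg.Agent.Lib.Helper14.IA.L00Basic

set_option autoImplicit false

namespace Cfsg.Agent.Lib.Helper14.IA

open scoped Nat

variable {Γ : Type*} [Group Γ]

theorem bf_dichotomy [Finite Γ] (a : Γ) (ha : a * a = 1) {N : Subgroup Γ} (hNn : N.Normal) :
    Nat.card N ≤ 2 * (Ko a).ncard * Nat.card ↥(N ⊓ Subgroup.centralizer ({a} : Set Γ)) ∨
    ∃ z ∈ N, z ≠ 1 ∧ Nat.card N ≤ 2 * (Nat.card ↥(N ⊓ Subgroup.centralizer ({a} : Set Γ))) ^ 2 *
      Nat.card ↥(N ⊓ Subgroup.centralizer ({z} : Set Γ)) := by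
  classical
  have : Fintype Γ := Fintype.ofFinite Γ
  have hainv : a⁻¹ = a := inv_eq_of_mul_eq_one_right ha
  have hcardS : ∀ S : Subgroup Γ,
      (Finset.univ.filter (fun v : Γ => v ∈ S)).card = Nat.card S := by
    intro S
    rw [Nat.card_eq_fintype_card, Fintype.card_subtype]
  obtain ⟨c, hc⟩ : ∃ c, c = Nat.card ↥(N ⊓ Subgroup.centralizer ({a} : Set Γ)) := ⟨_, rfl⟩
  obtain ⟨m, hm⟩ : ∃ m, m = (Ko a).ncard := ⟨_, rfl⟩
  obtain ⟨n, hn⟩ : ∃ n, n = Nat.card N := ⟨_, rfl⟩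
  rw [← hc, ← hm, ← hn]
  have hcpos : 0 < c := by
    rw [hc]
    exact Nat.card_pos
  have hnpos : 0 < n := by
    rw [hn]
    exact Nat.card_pos
  obtain ⟨NF, hNF⟩ : ∃ NF : Finset Γ, NF = Finset.univ.filter (fun v : Γ => v ∈ N) := ⟨_, rfl⟩
  have hmemNF : ∀ v, v ∈ NF ↔ v ∈ N := by
    intro v
    rw [hNF]
    simp
  have hNFcard : NF.card = n := by
    rw [hNF, hn]
    exact hcardS N
  -- fibres of `v ↦ v a v⁻¹` on `N` have at most `c` elements
  have hFB : ∀ b : Γ, (NF.filter (fun v => v * a * v⁻¹ = b)).card ≤ c := by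
    intro b
    rcases (NF.filter (fun v => v * a * v⁻¹ = b)).eq_empty_or_nonempty with he | ⟨v0, hv0⟩
    · rw [he, Finset.card_empty]
      exact Nat.zero_le _
    · rw [hc, ← hcardS]
      rw [Finset.mem_filter, hmemNF] at hv0
      apply Finset.card_le_card_of_injOn (fun v => v0⁻¹ * v)
      · intro v hv
        rw [Finset.mem_coe, Finset.mem_filter, hmemNF] at hv
        rw [Finset.mem_coe, Finset.mem_filter]
        refine ⟨Finset.mem_univ _, ?_⟩
        show v0⁻¹ * v ∈ N ⊓ Subgroup.centralizer ({a} : Set Γ)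
        rw [Subgroup.mem_inf, Subgroup.mem_centralizer_singleton_iff]
        refine ⟨N.mul_mem (N.inv_mem hv0.1) hv.1, ?_⟩
        have h : v * a * v⁻¹ = v0 * a * v0⁻¹ := by rw [hv.2, hv0.2]
        calc v0⁻¹ * v * a = v0⁻¹ * (v * a * v⁻¹) * v := by group
          _ = v0⁻¹ * (v0 * a * v0⁻¹) * v := by rw [h]
          _ = a * (v0⁻¹ * v) := by group
      · intro v _ v' _ h
        exact mul_left_cancel h
  -- a set of elements of the coset `N a` commuting with `z` has at most `|C_N(z)|` elements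
  have hCB : ∀ (z : Γ) (T : Finset Γ), (∀ b ∈ T, b * a⁻¹ ∈ N ∧ b * z = z * b) →
      T.card ≤ Nat.card ↥(N ⊓ Subgroup.centralizer ({z} : Set Γ)) := by
    intro z T hT
    rcases T.eq_empty_or_nonempty with he | ⟨b0, hb0⟩
    · rw [he, Finset.card_empty]
      exact Nat.zero_le _
    · rw [← hcardS]
      apply Finset.card_le_card_of_injOn (fun b => b * b0⁻¹)
      · intro b hb
        rw [Finset.mem_coe] at hb
        rw [Finset.mem_coe, Finset.mem_filter]
        have h1 := hT b hb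
        have h0 := hT b0 hb0
        refine ⟨Finset.mem_univ _, ?_⟩
        show b * b0⁻¹ ∈ N ⊓ Subgroup.centralizer ({z} : Set Γ)
        rw [Subgroup.mem_inf, Subgroup.mem_centralizer_singleton_iff]
        refine ⟨?_, ?_⟩
        · have e : b * b0⁻¹ = (b * a⁻¹) * (b0 * a⁻¹)⁻¹ := by group
          rw [e]
          exact N.mul_mem h1.1 (N.inv_mem h0.1)
        · have h0' : b0⁻¹ * z = z * b0⁻¹ := by
            calc b0⁻¹ * z = b0⁻¹ * (z * b0) * b0⁻¹ := by group
              _ = b0⁻¹ * (b0 * z) * b0⁻¹ := by rw [h0.2]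
              _ = z * b0⁻¹ := by group
          calc b * b0⁻¹ * z = b * (b0⁻¹ * z) := by group
            _ = b * (z * b0⁻¹) := by rw [h0']
            _ = (b * z) * b0⁻¹ := by group
            _ = (z * b) * b0⁻¹ := by rw [h1.2]
            _ = z * (b * b0⁻¹) := by group
      · intro b _ b' _ h
        exact mul_right_cancel h
  -- the commutator `x = v a v⁻¹ a⁻¹` lies in `N` and is inverted by `a`
  have hxN : ∀ v ∈ N, v * a * v⁻¹ * a⁻¹ ∈ N := by
    intro v hv
    have e : v * a * v⁻¹ * a⁻¹ = v * (a * v⁻¹ * a⁻¹) := by group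
    rw [e]
    exact N.mul_mem hv (hNn.conj_mem _ (N.inv_mem hv) a)
  have hxinv : ∀ v : Γ, a * (v * a * v⁻¹ * a⁻¹) * a⁻¹ = (v * a * v⁻¹ * a⁻¹)⁻¹ := by
    intro v
    have e1 : a * (v * a * v⁻¹ * a⁻¹) * a⁻¹ = a * v * a * v⁻¹ * (a⁻¹ * a⁻¹) := by group
    have e2 : (v * a * v⁻¹ * a⁻¹)⁻¹ = a * v * a⁻¹ * v⁻¹ := by group
    rw [e1, e2, hainv, ha, mul_one]
  -- odd part
  have hodd : (NF.filter (fun v => Odd (orderOf (v * a * v⁻¹ * a⁻¹)))).card ≤ c * m := by
    have h1 := Finset.card_le_mul_card_image (f := fun v => v * a * v⁻¹ * a⁻¹)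
      (NF.filter (fun v => Odd (orderOf (v * a * v⁻¹ * a⁻¹)))) c (by
        intro x _
        refine le_trans (Finset.card_le_card ?_) (hFB (x * a))
        intro v hv
        rw [Finset.mem_filter, Finset.mem_filter] at hv
        rw [Finset.mem_filter]
        refine ⟨hv.1.1, ?_⟩
        rw [← hv.2]
        group)
    refine le_trans h1 (Nat.mul_le_mul_left c ?_)
    rw [hm, Set.ncard_eq_toFinset_card']
    apply Finset.card_le_card
    intro x hx
    rw [Finset.mem_image] at hx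
    obtain ⟨v, hv, rfl⟩ := hx
    rw [Finset.mem_filter] at hv
    rw [Set.mem_toFinset]
    exact ⟨hv.2, hxinv v⟩
  -- even part
  obtain ⟨ZS, hZS⟩ : ∃ ZS : Finset Γ, ZS = (Finset.univ.filter
      (fun v : Γ => v ∈ N ⊓ Subgroup.centralizer ({a} : Set Γ))).erase 1 := ⟨_, rfl⟩
  have hZScard : ZS.card + 1 = c := by
    rw [hZS, Finset.card_erase_of_mem, hcardS, ← hc]
    · exact Nat.sub_add_cancel hcpos
    · rw [Finset.mem_filter]
      exact ⟨Finset.mem_univ _, Subgroup.one_mem _⟩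
  have hmemZS : ∀ z, z ∈ ZS ↔ z ≠ 1 ∧ z ∈ N ∧ z * a = a * z := by
    intro z
    rw [hZS, Finset.mem_erase, Finset.mem_filter, Subgroup.mem_inf,
      Subgroup.mem_centralizer_singleton_iff]
    simp
  have hTz : ∀ z : Γ, (NF.filter (fun v => (v * a * v⁻¹) * z = z * (v * a * v⁻¹))).card
      ≤ c * Nat.card ↥(N ⊓ Subgroup.centralizer ({z} : Set Γ)) := by
    intro z
    have h1 := Finset.card_le_mul_card_image (f := fun v => v * a * v⁻¹)
      (NF.filter (fun v => (v * a * v⁻¹) * z = z * (v * a * v⁻¹))) c (by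
        intro b _
        refine le_trans (Finset.card_le_card ?_) (hFB b)
        intro v hv
        rw [Finset.mem_filter, Finset.mem_filter] at hv
        rw [Finset.mem_filter]
        exact ⟨hv.1.1, hv.2⟩)
    refine le_trans h1 (Nat.mul_le_mul_left c ?_)
    apply hCB z
    intro b hb
    rw [Finset.mem_image] at hb
    obtain ⟨v, hv, rfl⟩ := hb
    rw [Finset.mem_filter, hmemNF] at hv
    exact ⟨hxN v hv.1, hv.2⟩
  have heven : (NF.filter (fun v => ¬ Odd (orderOf (v * a * v⁻¹ * a⁻¹)))).card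
      ≤ ∑ z ∈ ZS, c * Nat.card ↥(N ⊓ Subgroup.centralizer ({z} : Set Γ)) := by
    have hsub : NF.filter (fun v => ¬ Odd (orderOf (v * a * v⁻¹ * a⁻¹))) ⊆
        ZS.biUnion (fun z => NF.filter (fun v => (v * a * v⁻¹) * z = z * (v * a * v⁻¹))) := by
      intro v hv
      rw [Finset.mem_filter, hmemNF] at hv
      obtain ⟨hvN, hvo⟩ := hv
      obtain ⟨x, hx⟩ : ∃ x, x = v * a * v⁻¹ * a⁻¹ := ⟨_, rfl⟩
      rw [← hx] at hvo
      have hxN' : x ∈ N := hx ▸ hxN v hvN
      have hxi : a * x * a⁻¹ = x⁻¹ := hx ▸ hxinv v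
      have hopos : 0 < orderOf x := orderOf_pos x
      have heven : Even (orderOf x) := Nat.not_odd_iff_even.mp hvo
      obtain ⟨k, hk⟩ := heven
      have hkpos : 0 < k := by omega
      have hz1 : x ^ k ≠ 1 := pow_ne_one_of_lt_orderOf hkpos.ne' (by omega)
      have hz2 : x ^ k * x ^ k = 1 := by
        rw [← pow_add, ← hk, pow_orderOf_eq_one]
      have hzinv : (x ^ k)⁻¹ = x ^ k := inv_eq_of_mul_eq_one_right hz2
      have hza : x ^ k * a = a * x ^ k := by
        have h1 : a * x ^ k * a⁻¹ = x ^ k := by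
          have h2 : a * x ^ k * a⁻¹ = (a * x * a⁻¹) ^ k := (conj_pow (a := a) (b := x) (i := k)).symm
          rw [h2, hxi, inv_pow, hzinv]
        calc x ^ k * a = (a * x ^ k * a⁻¹) * a := by rw [h1]
          _ = a * x ^ k := by group
      have hzb : (v * a * v⁻¹) * x ^ k = x ^ k * (v * a * v⁻¹) := by
        have hb : v * a * v⁻¹ = x * a := by
          rw [hx]
          group
        rw [hb]
        calc x * a * x ^ k = x * (a * x ^ k) := by group
          _ = x * (x ^ k * a) := by rw [hza]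
          _ = (x * x ^ k) * a := by group
          _ = (x ^ k * x) * a := by rw [← pow_succ', ← pow_succ]
          _ = x ^ k * (x * a) := by group
      rw [Finset.mem_biUnion]
      refine ⟨x ^ k, (hmemZS _).mpr ⟨hz1, N.pow_mem hxN' k, hza⟩, ?_⟩
      rw [Finset.mem_filter, hmemNF]
      exact ⟨hvN, hzb⟩
    exact le_trans (Finset.card_le_card hsub) Finset.card_biUnion_le |>.trans
      (Finset.sum_le_sum fun z _ => hTz z)
  have hsplit : n = (NF.filter (fun v => Odd (orderOf (v * a * v⁻¹ * a⁻¹)))).card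
      + (NF.filter (fun v => ¬ Odd (orderOf (v * a * v⁻¹ * a⁻¹)))).card := by
    rw [← hNFcard]
    exact (Finset.card_filter_add_card_filter_not _).symm
  have hH1 : n ≤ c * m + ∑ z ∈ ZS, c * Nat.card ↥(N ⊓ Subgroup.centralizer ({z} : Set Γ)) := by
    rw [hsplit]
    exact Nat.add_le_add hodd heven
  -- arithmetic
  by_contra hcon
  rw [not_or] at hcon
  obtain ⟨hL, hR⟩ := hcon
  have hL' : 2 * m * c < n := not_le.mp hL
  have hR' : ∀ z ∈ ZS, 2 * c ^ 2 * Nat.card ↥(N ⊓ Subgroup.centralizer ({z} : Set Γ)) ≤ n := by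
    intro z hz
    obtain ⟨hz1, hzN, _⟩ := (hmemZS z).mp hz
    by_contra hlt
    exact hR ⟨z, hzN, hz1, (not_le.mp hlt).le⟩
  have hsum : ∑ z ∈ ZS, 2 * c ^ 2 * Nat.card ↥(N ⊓ Subgroup.centralizer ({z} : Set Γ))
      ≤ ZS.card * n := by
    have := Finset.sum_le_card_nsmul ZS
      (fun z => 2 * c ^ 2 * Nat.card ↥(N ⊓ Subgroup.centralizer ({z} : Set Γ))) n hR'
    simpa using this
  have hsum2 : 2 * c * ∑ z ∈ ZS, c * Nat.card ↥(N ⊓ Subgroup.centralizer ({z} : Set Γ))
      = ∑ z ∈ ZS, 2 * c ^ 2 * Nat.card ↥(N ⊓ Subgroup.centralizer ({z} : Set Γ)) := by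
    rw [Finset.mul_sum]
    apply Finset.sum_congr rfl
    intro z _
    ring
  have hA : 2 * c * n ≤ 2 * c * (c * m) + ZS.card * n := by
    calc 2 * c * n ≤ 2 * c * (c * m + ∑ z ∈ ZS,
          c * Nat.card ↥(N ⊓ Subgroup.centralizer ({z} : Set Γ))) := Nat.mul_le_mul_left _ hH1
      _ = 2 * c * (c * m) + 2 * c * ∑ z ∈ ZS,
          c * Nat.card ↥(N ⊓ Subgroup.centralizer ({z} : Set Γ)) := by ring
      _ ≤ 2 * c * (c * m) + ZS.card * n := by
        rw [hsum2]
        exact Nat.add_le_add_left hsum _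
  have hB : c * (2 * m * c) < c * n := Nat.mul_lt_mul_of_pos_left hL' hcpos
  have hc' : c = ZS.card + 1 := hZScard.symm
  generalize ZS.card = K at *
  subst hc'
  nlinarith [hA, hB, hnpos]

end Cfsg.Agent.Lib.Helper14.IA
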