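import Mathlib
import Cfsg.Agent.Lib.Helper14.IA.Defs

set_option autoImplicit false

namespace Cfsg.Agent.Lib.Helper14.IA

open scoped Nat

variable {Γ : Type*} [Group Γ]

theorem small_class_bound [Finite Γ] {N : Subgroup Γ} (hN : IsMinNormal N)
    (hC : N ⊓ Subgroup.centralizer (N : Set Γ) = ⊥) {z : Γ} (hz : z ∈ N) (hz1 : z ≠ 1) {r : ℕ}
    (hr : (Subgroup.centralizer ({z} : Set Γ)).index ≤ r) : Nat.card N ≤ r ! := by
  classical
  obtain ⟨hNn, hN1, hNmin⟩ := hN
  have := hNn
  set H : Subgroup Γ := Subgroup.centralizer ({z} : Set Γ) with hH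
  -- the normal closure of z is N
  have hncl : Subgroup.normalClosure ({z} : Set Γ) = N := by
    have hle : Subgroup.normalClosure ({z} : Set Γ) ≤ N :=
      Subgroup.normalClosure_le_normal (by simpa using hz)
    rcases hNmin _ Subgroup.normalClosure_normal hle with h | h
    · exfalso
      have : z ∈ Subgroup.normalClosure ({z} : Set Γ) :=
        Subgroup.subset_normalClosure (Set.mem_singleton z)
      rw [h, Subgroup.mem_bot] at this
      exact hz1 this
    · exact h
  -- the normal core of H centralizes N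
  have hcore : H.normalCore ≤ Subgroup.centralizer (N : Set Γ) := by
    intro k hk
    have hk' : ∀ b : Γ, b * k * b⁻¹ ∈ H := hk
    -- k commutes with all conjugates of z
    have hconj : ∀ b : Γ, (b⁻¹ * z * b) * k = k * (b⁻¹ * z * b) := by
      intro b
      have h1 := hk' b
      rw [hH, Subgroup.mem_centralizer_iff] at h1
      have h2 := h1 z (Set.mem_singleton z)
      -- h2 : z * (b k b⁻¹) = (b k b⁻¹) * z
      calc (b⁻¹ * z * b) * k = b⁻¹ * (z * (b * k * b⁻¹)) * b := by group
        _ = b⁻¹ * ((b * k * b⁻¹) * z) * b := by rw [h2]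
        _ = k * (b⁻¹ * z * b) := by group
    -- so k centralizes the normal closure
    have hsub : Subgroup.normalClosure ({z} : Set Γ) ≤ Subgroup.centralizer ({k} : Set Γ) := by
      rw [Subgroup.normalClosure, Subgroup.closure_le]
      intro x hx
      rw [Group.mem_conjugatesOfSet_iff] at hx
      obtain ⟨w, hw, hwx⟩ := hx
      rw [Set.mem_singleton_iff] at hw
      subst hw
      rw [isConj_iff] at hwx
      obtain ⟨c, rfl⟩ := hwx
      rw [SetLike.mem_coe, Subgroup.mem_centralizer_iff]
      intro y hy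
      rw [Set.mem_singleton_iff] at hy
      subst hy
      have := hconj c⁻¹
      simp only [inv_inv] at this
      exact this.symm
    rw [Subgroup.mem_centralizer_iff]
    intro n hn
    rw [← hncl] at hn
    have := hsub hn
    rw [Subgroup.mem_centralizer_iff] at this
    exact (this k (Set.mem_singleton k)).symm
  -- N meets the core trivially, so N embeds in Perm (Γ ⧸ H)
  let act : Γ →* Equiv.Perm (Γ ⧸ H) := MulAction.toPermHom Γ (Γ ⧸ H)
  have hker : act.ker = H.normalCore := (Subgroup.normalCore_eq_ker H).symm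
  have hinj : Function.Injective (act.comp N.subtype) := by
    rw [← MonoidHom.ker_eq_bot_iff, eq_bot_iff]
    intro x hx
    rw [MonoidHom.mem_ker, MonoidHom.comp_apply] at hx
    have hx1 : (x : Γ) ∈ act.ker := hx
    rw [hker] at hx1
    have hx2 : (x : Γ) ∈ N ⊓ Subgroup.centralizer (N : Set Γ) := ⟨x.2, hcore hx1⟩
    rw [hC, Subgroup.mem_bot] at hx2
    rw [Subgroup.mem_bot]
    exact Subtype.ext hx2
  have h1 : Nat.card N ≤ Nat.card (Equiv.Perm (Γ ⧸ H)) := Nat.card_le_card_of_injective _ hinj
  have h2 : Nat.card (Equiv.Perm (Γ ⧸ H)) = (H.index)! := by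
    have : Fintype (Γ ⧸ H) := Fintype.ofFinite _
    rw [Nat.card_eq_fintype_card, Fintype.card_perm, Subgroup.index, Nat.card_eq_fintype_card]
  rw [h2] at h1
  exact h1.trans (Nat.factorial_le hr)

end Cfsg.Agent.Lib.Helper14.IA
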