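import Mathlib
import Cfsg.Agent.Lib.Helper14.IA.L00Basic

set_option autoImplicit false

namespace Cfsg.Agent.Lib.Helper14.IA

open scoped Nat

variable {Γ : Type*} [Group Γ]

theorem Ko_inter_ucs (a : Γ) (n : ℕ) {z : Γ} (hz : z ∈ Subgroup.upperCentralSeries Γ n)
    (hzK : z ∈ Ko a) : z = 1 := by
  induction n generalizing z with
  | zero =>
    rw [Subgroup.upperCentralSeries_zero, Subgroup.mem_bot] at hz
    exact hz
  | succ n ih =>
    rw [Subgroup.mem_upperCentralSeries_succ_iff] at hz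
    have h1 := hz a
    have hinv : a * z * a⁻¹ = z⁻¹ := hzK.2
    have h2 : z * a * z⁻¹ * a⁻¹ = z ^ 2 := by
      have : z * a * z⁻¹ * a⁻¹ = z * (a * z * a⁻¹)⁻¹ := by group
      rw [this, hinv, inv_inv, pow_two]
    rw [commutatorElement_def, h2] at h1
    have h3 : z ^ 2 = 1 := ih h1 (pow_mem_Ko hzK 2)
    have hodd : Odd (orderOf z) := hzK.1
    have hdvd : orderOf z ∣ 2 := orderOf_dvd_of_pow_eq_one h3
    have hone : orderOf z = 1 := by
      rcases (Nat.dvd_prime Nat.prime_two).1 hdvd with h | h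
      · exact h
      · rw [h] at hodd; exact absurd hodd (by decide)
    exact orderOf_eq_one_iff.1 hone

end Cfsg.Agent.Lib.Helper14.IA
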