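import Mathlib
import Cfsg.Agent.Lib.Helper14.IA.Defs

set_option autoImplicit false

namespace Cfsg.Agent.Lib.Helper14.IA

open scoped Nat
open scoped commutatorElement

variable {Γ : Type*} [Group Γ]

theorem exists_ucs_center_bot [Finite Γ] :
    ∃ n : ℕ, Subgroup.center (Γ ⧸ Subgroup.upperCentralSeries Γ n) = ⊥ := by
  classical
  obtain ⟨n, hn⟩ := WellFoundedGT.monotone_chain_condition
    (⟨Subgroup.upperCentralSeries Γ, Subgroup.upperCentralSeries_mono Γ⟩ : ℕ →o Subgroup Γ)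
  refine ⟨n, ?_⟩
  have hstab : Subgroup.upperCentralSeries Γ (n + 1) = Subgroup.upperCentralSeries Γ n :=
    (hn (n + 1) (Nat.le_succ n)).symm
  rw [eq_bot_iff]
  intro x hx
  obtain ⟨g, rfl⟩ := QuotientGroup.mk_surjective x
  rw [Subgroup.mem_bot, QuotientGroup.eq_one_iff, ← hstab, Subgroup.mem_upperCentralSeries_succ_iff]
  intro y
  rw [Subgroup.mem_center_iff] at hx
  have h := hx (QuotientGroup.mk y)
  rw [← QuotientGroup.mk_mul, ← QuotientGroup.mk_mul, QuotientGroup.eq] at h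
  -- h : (y * g)⁻¹ * (g * y) ∈ Z_n
  have hN : (Subgroup.upperCentralSeries Γ n).Normal := inferInstance
  -- g * y * g⁻¹ * y⁻¹ = y * ((y*g)⁻¹ * (g*y))... conjugate
  have e : ⁅g, y⁆ = (y * g) * ((y * g)⁻¹ * (g * y)) * (y * g)⁻¹ := by
    rw [commutatorElement_def]; group
  rw [e]
  exact hN.conj_mem _ h _

end Cfsg.Agent.Lib.Helper14.IA
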