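import Mathlib
import Cfsg.Agent.Lib.Helper14.IA.L00Basic
import Cfsg.Agent.Lib.Helper14.IA.L01Gen

set_option autoImplicit false

namespace Cfsg.Agent.Lib.Helper14.IA

open scoped Nat

variable {Γ : Type*} [Group Γ]

namespace L23

theorem inv_eq_self {a : Γ} (ha : a * a = 1) : a⁻¹ = a := inv_eq_of_mul_eq_one_left ha

/-- `a` maps `closure (Ko a)` into itself -/
theorem conj_mem_closure (a : Γ) {h : Γ} (hh : h ∈ Subgroup.closure (Ko a)) :
    a * h * a⁻¹ ∈ Subgroup.closure (Ko a) := by
  induction hh using Subgroup.closure_induction with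
  | mem x hx =>
    have : a * x * a⁻¹ = x⁻¹ := hx.2
    rw [this]
    exact Subgroup.inv_mem _ (Subgroup.subset_closure hx)
  | one => simp
  | mul x y _ _ hx hy =>
    have : a * (x * y) * a⁻¹ = (a * x * a⁻¹) * (a * y * a⁻¹) := by group
    rw [this]
    exact Subgroup.mul_mem _ hx hy
  | inv x _ hx =>
    have : a * x⁻¹ * a⁻¹ = (a * x * a⁻¹)⁻¹ := by group
    rw [this]
    exact Subgroup.inv_mem _ hx

end L23

theorem closure_Ko_normal [Finite Γ] (a : Γ) (ha : a * a = 1)
    (hncl : Subgroup.normalClosure ({a} : Set Γ) = ⊤) : (Subgroup.closure (Ko a)).Normal := by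
  have hgen := gen a ha hncl
  have hainv : a⁻¹ = a := L23.inv_eq_self ha
  rw [← Subgroup.normalizer_eq_top_iff, eq_top_iff, ← hgen, Subgroup.closure_le]
  rintro g (hg | hg)
  · rw [Set.mem_singleton_iff] at hg
    subst hg
    rw [SetLike.mem_coe, Subgroup.mem_normalizer_iff]
    intro h
    constructor
    · intro hh
      exact L23.conj_mem_closure g hh
    · intro hh
      have h1 := L23.conj_mem_closure g hh
      have h2 : g * (g * h * g⁻¹) * g⁻¹ = h := by
        rw [hainv]
        calc g * (g * h * g) * g = (g * g) * h * (g * g) := by group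
          _ = h := by rw [ha, one_mul, mul_one]
      rw [h2] at h1
      exact h1
  · exact Subgroup.le_normalizer (Subgroup.subset_closure hg)

theorem index_closure_Ko_le [Finite Γ] (a : Γ) (ha : a * a = 1)
    (hncl : Subgroup.normalClosure ({a} : Set Γ) = ⊤) : (Subgroup.closure (Ko a)).index ≤ 2 := by
  have hgen := gen a ha hncl
  have hN : (Subgroup.closure (Ko a)).Normal := closure_Ko_normal a ha hncl
  set E := Subgroup.closure (Ko a) with hE
  -- the quotient is generated by the image of `a`
  have hmap : (Subgroup.closure (({a} : Set Γ) ∪ Ko a)).map (QuotientGroup.mk' E) = ⊤ := by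
    rw [hgen, ← MonoidHom.range_eq_map, MonoidHom.range_eq_top]
    exact QuotientGroup.mk'_surjective E
  have hz : Subgroup.zpowers (QuotientGroup.mk' E a) = ⊤ := by
    rw [eq_top_iff, ← hmap, MonoidHom.map_closure, Subgroup.closure_le]
    rintro _ ⟨g, hg, rfl⟩
    rcases hg with hg | hg
    · rw [Set.mem_singleton_iff] at hg
      subst hg
      exact Subgroup.mem_zpowers _
    · have : QuotientGroup.mk' E g = 1 :=
        (QuotientGroup.eq_one_iff g).2 (Subgroup.subset_closure hg)
      rw [SetLike.mem_coe, this]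
      exact Subgroup.one_mem _
  have hcard : Nat.card (Γ ⧸ E) = orderOf (QuotientGroup.mk' E a) := by
    rw [← Nat.card_zpowers, hz, Subgroup.card_top]
  have hord : orderOf (QuotientGroup.mk' E a) ≤ 2 := by
    apply Nat.le_of_dvd (by norm_num)
    apply orderOf_dvd_of_pow_eq_one
    rw [pow_two, ← map_mul, ha, map_one]
  rw [Subgroup.index_eq_card, hcard]
  exact hord

end Cfsg.Agent.Lib.Helper14.IA
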