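import Mathlib
import Cfsg.Agent.Lib.Helper14.IA.Defs

set_option autoImplicit false

namespace Cfsg.Agent.Lib.Helper14.IA

open scoped Nat

variable {Γ : Type*} [Group Γ]

theorem center_index_le [Finite Γ] (a : Γ) {H : Subgroup Γ}
    (hHK : ∀ w ∈ H, ∀ y ∈ Ko a, w * y = y * w) {b1 : ℕ} (hb : H.index ≤ b1) :
    (Subgroup.center ↥(Subgroup.closure (Ko a))).index ≤ b1 := by
  classical
  -- `H` centralizes the closure of `Ko a`
  have hcent : ∀ w ∈ H, ∀ y ∈ Subgroup.closure (Ko a), w * y = y * w := by
    intro w hw y hy
    have : y ∈ Subgroup.centralizer ({w} : Set Γ) := by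
      have hle : Subgroup.closure (Ko a) ≤ Subgroup.centralizer ({w} : Set Γ) := by
        rw [Subgroup.closure_le]
        intro z hz
        rw [SetLike.mem_coe, Subgroup.mem_centralizer_iff]
        intro h hh
        rw [Set.mem_singleton_iff] at hh
        rw [hh]
        exact hHK w hw z hz
      exact hle hy
    rw [Subgroup.mem_centralizer_iff] at this
    exact this w rfl
  have hle : H.subgroupOf (Subgroup.closure (Ko a)) ≤
      Subgroup.center ↥(Subgroup.closure (Ko a)) := by
    intro x hx
    rw [Subgroup.mem_subgroupOf] at hx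
    rw [Subgroup.mem_center_iff]
    intro g
    apply Subtype.ext
    simp only [Subgroup.coe_mul]
    exact (hcent _ hx _ g.2).symm
  have h1 : (Subgroup.center ↥(Subgroup.closure (Ko a))).index ≤
      (H.subgroupOf (Subgroup.closure (Ko a))).index :=
    Nat.le_of_dvd (Nat.pos_of_ne_zero Subgroup.index_ne_zero_of_finite)
      (Subgroup.index_dvd_of_le hle)
  have h2 : (H.subgroupOf (Subgroup.closure (Ko a))).index ≤ H.index := by
    have := Subgroup.relIndex_le_of_le_right (H := H) (le_top : Subgroup.closure (Ko a) ≤ ⊤)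
      (by rw [Subgroup.relIndex_top_right]; exact Subgroup.index_ne_zero_of_finite)
    rwa [Subgroup.relIndex_top_right] at this
  exact h1.trans (h2.trans hb)

end Cfsg.Agent.Lib.Helper14.IA
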