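import Mathlib
import Cfsg.Agent.Lib.Helper14.IA.Defs

set_option autoImplicit false

namespace Cfsg.Agent.Lib.Helper14.IA

open scoped Nat
open scoped commutatorElement

variable {Γ : Type*} [Group Γ]

namespace L25

theorem comm_mul_central_left {G : Type*} [Group G] (g b z : G) (hz : z ∈ Subgroup.center G) :
    ⁅g * z, b⁆ = ⁅g, b⁆ := by
  have hzb : z * b = b * z := (Subgroup.mem_center_iff.mp hz b).symm
  rw [commutatorElement_def, commutatorElement_def]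
  calc g * z * b * (g * z)⁻¹ * b⁻¹ = g * (z * b) * z⁻¹ * g⁻¹ * b⁻¹ := by group
    _ = g * (b * z) * z⁻¹ * g⁻¹ * b⁻¹ := by rw [hzb]
    _ = g * b * g⁻¹ * b⁻¹ := by group

theorem comm_mul_central {G : Type*} [Group G] (g₁ g₂ z₁ z₂ : G) (h1 : z₁ ∈ Subgroup.center G)
    (h2 : z₂ ∈ Subgroup.center G) : ⁅g₁ * z₁, g₂ * z₂⁆ = ⁅g₁, g₂⁆ := by
  rw [comm_mul_central_left g₁ (g₂ * z₂) z₁ h1, ← commutatorElement_inv,
    comm_mul_central_left g₂ g₁ z₂ h2, commutatorElement_inv]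

end L25

theorem card_commutatorSet_le {G : Type*} [Group G] [Finite G] :
    Nat.card (commutatorSet G) ≤ (Subgroup.center G).index ^ 2 := by
  classical
  let f : (G ⧸ Subgroup.center G) × (G ⧸ Subgroup.center G) → commutatorSet G :=
    fun q => ⟨⁅q.1.out, q.2.out⁆, ⟨_, _, rfl⟩⟩
  have hf : Function.Surjective f := by
    rintro ⟨g, g₁, g₂, rfl⟩
    refine ⟨(QuotientGroup.mk g₁, QuotientGroup.mk g₂), ?_⟩
    obtain ⟨z₁, hz₁⟩ := QuotientGroup.mk_out_eq_mul (Subgroup.center G) g₁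
    obtain ⟨z₂, hz₂⟩ := QuotientGroup.mk_out_eq_mul (Subgroup.center G) g₂
    apply Subtype.ext
    show ⁅(QuotientGroup.mk g₁ : G ⧸ Subgroup.center G).out,
      (QuotientGroup.mk g₂ : G ⧸ Subgroup.center G).out⁆ = ⁅g₁, g₂⁆
    rw [hz₁, hz₂]
    exact L25.comm_mul_central g₁ g₂ z₁ z₂ z₁.2 z₂.2
  have h := Nat.card_le_card_of_surjective f hf
  rw [Nat.card_prod] at h
  rw [pow_two]
  exact h

end Cfsg.Agent.Lib.Helper14.IA
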