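import Mathlib
import Cfsg.Agent.Lib.Helper14.IA.L00Basic
import Cfsg.Agent.Lib.Helper14.IA.L01Gen
import Cfsg.Agent.Lib.Helper14.IA.L04MkMem
import Cfsg.Agent.Lib.Helper14.IA.L06QuotLe
import Cfsg.Agent.Lib.Helper14.IA.L23ClosureNormal

set_option autoImplicit false

namespace Cfsg.Agent.Lib.Helper14.IA

open scoped Nat commutatorElement

variable {Γ : Type*} [Group Γ]

namespace L26

/-- in a group, commuting elements of `Ko a` multiply into `Ko a` -/
theorem mul_mem_Ko_of_commute {a x y : Γ} (hx : x ∈ Ko a) (hy : y ∈ Ko a) (hxy : Commute x y) :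
    x * y ∈ Ko a := by
  obtain ⟨hox, hix⟩ := hx
  obtain ⟨hoy, hiy⟩ := hy
  refine ⟨?_, ?_⟩
  · have hd : orderOf (x * y) ∣ Nat.lcm (orderOf x) (orderOf y) := hxy.orderOf_mul_dvd_lcm
    have hl : Odd (Nat.lcm (orderOf x) (orderOf y)) := by
      rw [← Nat.not_even_iff_odd, even_iff_two_dvd]
      intro h2
      have h2p : Nat.Prime 2 := Nat.prime_two
      have hmul : 2 ∣ orderOf x * orderOf y :=
        dvd_trans h2 (Nat.lcm_dvd_mul _ _)
      rcases (Nat.Prime.dvd_mul h2p).mp hmul with h | h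
      · exact (Nat.not_even_iff_odd.mpr hox) (even_iff_two_dvd.mpr h)
      · exact (Nat.not_even_iff_odd.mpr hoy) (even_iff_two_dvd.mpr h)
    exact Odd.of_dvd_nat hl hd
  · calc a * (x * y) * a⁻¹ = (a * x * a⁻¹) * (a * y * a⁻¹) := by group
      _ = x⁻¹ * y⁻¹ := by rw [hix, hiy]
      _ = (x * y)⁻¹ := by rw [mul_inv_rev, (hxy.inv_inv).eq]

end L26

theorem L26.aux [Finite Γ] (a : Γ) (ha : a * a = 1) (E : Subgroup Γ) [hEn : E.Normal]
    (hE : E = Subgroup.closure (Ko a)) :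
    Nat.card ↥E ≤ (Ko a).ncard * Nat.card (commutator ↥E) := by
  classical
  -- D = E' as a subgroup of Γ
  obtain ⟨D, hD⟩ : ∃ D : Subgroup Γ, D = (commutator ↥E).map E.subtype := ⟨_, rfl⟩
  haveI hDn : D.Normal := by
    rw [hD, commutator_def, Subgroup.map_commutator]
    have : (⊤ : Subgroup ↥E).map E.subtype = E := by
      rw [← MonoidHom.range_eq_map, Subgroup.range_subtype]
    rw [this]
    exact Subgroup.commutator_normal E E
  have hDE : D ≤ E := by
    rw [hD]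
    exact Subgroup.map_subtype_le _
  have hDcomm : ∀ x ∈ E, ∀ y ∈ E, x * y * x⁻¹ * y⁻¹ ∈ D := by
    intro x hx y hy
    rw [hD]
    refine ⟨⁅(⟨x, hx⟩ : ↥E), (⟨y, hy⟩ : ↥E)⁆, ?_, ?_⟩
    · rw [commutator_def]
      exact Subgroup.commutator_mem_commutator (Subgroup.mem_top _) (Subgroup.mem_top _)
    · simp [commutatorElement_def]
  -- image of E in Γ ⧸ D lies in Ko (mk a)
  have himg : ∀ x ∈ E, (QuotientGroup.mk x : Γ ⧸ D) ∈ Ko (QuotientGroup.mk a : Γ ⧸ D) := by
    intro x hx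
    rw [hE] at hx
    have hcl : ∀ z ∈ Subgroup.closure (Ko a), z ∈ E := fun z hz => hE ▸ hz
    refine Subgroup.closure_induction (p := fun x _ => (QuotientGroup.mk x : Γ ⧸ D) ∈
      Ko (QuotientGroup.mk a : Γ ⧸ D)) ?_ ?_ ?_ ?_ hx
    · intro y hy
      exact mk_mem_Ko a D hy
    · rw [QuotientGroup.mk_one]
      exact one_mem_Ko _
    · intro x y hx hy hxK hyK
      rw [QuotientGroup.mk_mul]
      refine L26.mul_mem_Ko_of_commute hxK hyK ?_
      have h := hDcomm x (hcl x hx) y (hcl y hy)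
      have h' : (QuotientGroup.mk (x * y * x⁻¹ * y⁻¹) : Γ ⧸ D) = 1 :=
        (QuotientGroup.eq_one_iff _).mpr h
      rw [QuotientGroup.mk_mul, QuotientGroup.mk_mul, QuotientGroup.mk_mul,
        QuotientGroup.mk_inv, QuotientGroup.mk_inv] at h'
      show (QuotientGroup.mk x : Γ ⧸ D) * QuotientGroup.mk y =
        QuotientGroup.mk y * QuotientGroup.mk x
      calc (QuotientGroup.mk x : Γ ⧸ D) * QuotientGroup.mk y
          = ((QuotientGroup.mk x : Γ ⧸ D) * QuotientGroup.mk y * (QuotientGroup.mk x)⁻¹ *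
              (QuotientGroup.mk y)⁻¹) * (QuotientGroup.mk y * QuotientGroup.mk x) := by group
        _ = QuotientGroup.mk y * QuotientGroup.mk x := by rw [h', one_mul]
    · intro x hx hxK
      rw [QuotientGroup.mk_inv]
      exact inv_mem_Ko hxK
  have hcardD : Nat.card ↥D = Nat.card (commutator ↥E) := by
    rw [hD]
    exact Nat.card_congr
      ((commutator ↥E).equivMapOfInjective E.subtype (Subgroup.subtype_injective E)).symm.toEquiv
  -- the image of E in Γ ⧸ D
  obtain ⟨f, hf⟩ : ∃ f : ↥E →* Γ ⧸ D, f = (QuotientGroup.mk' D).comp E.subtype := ⟨_, rfl⟩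
  have hker : f.ker = D.subgroupOf E := by
    ext x
    rw [MonoidHom.mem_ker, Subgroup.mem_subgroupOf, hf]
    show (QuotientGroup.mk (x : Γ) : Γ ⧸ D) = 1 ↔ _
    exact QuotientGroup.eq_one_iff _
  have hrange : (f.range : Set (Γ ⧸ D)) ⊆ Ko (QuotientGroup.mk a : Γ ⧸ D) := by
    rintro _ ⟨x, rfl⟩
    rw [hf]
    exact himg x.1 x.2
  have h1 : Nat.card ↥f.range ≤ (Ko (QuotientGroup.mk a : Γ ⧸ D)).ncard := by
    have e : Nat.card ↥f.range = (f.range : Set (Γ ⧸ D)).ncard := Nat.card_coe_set_eq _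
    rw [e]
    exact Set.ncard_le_ncard hrange (Set.toFinite _)
  have h2 : Nat.card ↥f.range ≤ (Ko a).ncard := le_trans h1 (ncard_quotient_le a ha D)
  have h3 : Nat.card ↥E = Nat.card (↥E ⧸ f.ker) * Nat.card ↥f.ker :=
    Subgroup.card_eq_card_quotient_mul_card_subgroup f.ker
  have h4 : Nat.card (↥E ⧸ f.ker) = Nat.card ↥f.range :=
    Nat.card_congr (QuotientGroup.quotientKerEquivRange f).toEquiv
  have h5 : Nat.card ↥f.ker = Nat.card ↥D := by
    rw [hker]
    exact Nat.card_congr (Subgroup.subgroupOfEquivOfLe hDE).toEquiv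
  rw [h3, h4, h5, hcardD]
  exact Nat.mul_le_mul h2 le_rfl

theorem card_le_mul_commutator [Finite Γ] (a : Γ) (ha : a * a = 1)
    (hncl : Subgroup.normalClosure ({a} : Set Γ) = ⊤) :
    Nat.card ↥(Subgroup.closure (Ko a)) ≤
      (Ko a).ncard * Nat.card (commutator ↥(Subgroup.closure (Ko a))) := by
  haveI := closure_Ko_normal a ha hncl
  exact L26.aux a ha (Subgroup.closure (Ko a)) rfl

end Cfsg.Agent.Lib.Helper14.IA
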