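import Mathlib
import Cfsg.Agent.Lib.Helper14.IA.L00Basic
import Cfsg.Agent.Lib.Helper14.IA.L01Gen
import Cfsg.Agent.Lib.Helper14.IA.L02Center
import Cfsg.Agent.Lib.Helper14.IA.L03NclQuot
import Cfsg.Agent.Lib.Helper14.IA.L04MkMem
import Cfsg.Agent.Lib.Helper14.IA.L05Lift
import Cfsg.Agent.Lib.Helper14.IA.L06QuotLe
import Cfsg.Agent.Lib.Helper14.IA.L07QuotLt
import Cfsg.Agent.Lib.Helper14.IA.L08MinNormal
import Cfsg.Agent.Lib.Helper14.IA.L09NotComm
import Cfsg.Agent.Lib.Helper14.IA.L10OddOrTwoGroup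
import Cfsg.Agent.Lib.Helper14.IA.L11TwoGroupElem
import Cfsg.Agent.Lib.Helper14.IA.L12TwoCase
import Cfsg.Agent.Lib.Helper14.IA.L13AbElem
import Cfsg.Agent.Lib.Helper14.IA.L14AbCard
import Cfsg.Agent.Lib.Helper14.IA.L15AbPrime
import Cfsg.Agent.Lib.Helper14.IA.L16InfCent
import Cfsg.Agent.Lib.Helper14.IA.L17CardCent
import Cfsg.Agent.Lib.Helper14.IA.L18BF
import Cfsg.Agent.Lib.Helper14.IA.L19SmallClass
import Cfsg.Agent.Lib.Helper14.IA.L20UcsKo
import Cfsg.Agent.Lib.Helper14.IA.L21UcsComm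
import Cfsg.Agent.Lib.Helper14.IA.L22UcsStab
import Cfsg.Agent.Lib.Helper14.IA.L23ClosureNormal
import Cfsg.Agent.Lib.Helper14.IA.L24CenterIndex
import Cfsg.Agent.Lib.Helper14.IA.L25CommSet
import Cfsg.Agent.Lib.Helper14.IA.L26CardComm

set_option autoImplicit false

namespace Cfsg.Agent.Lib.Helper14.IA

open scoped Nat

universe u

variable {Γ : Type u} [Group Γ]

theorem strict [Finite Γ] (a : Γ) (ha : a * a = 1)
    (hncl : Subgroup.normalClosure ({a} : Set Γ) = ⊤) {N : Subgroup Γ} (hN : IsMinNormal N)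
    (hNc : ¬ N ≤ Subgroup.center Γ) :
    haveI := hN.1
    (Ko (QuotientGroup.mk a : Γ ⧸ N)).ncard < (Ko a).ncard := by
  haveI := hN.1
  apply ncard_quotient_lt a ha N
  rcases odd_or_twoGroup a ha hncl hN hNc with ⟨y, hy, hy1, hyN⟩ | h2
  · exact ⟨1, one_mem_Ko a, y, hy, fun h => hy1 h.symm, by simpa using hyN⟩
  · exact two_case a ha hncl hN hNc (twoGroup_elementary hN h2)

/-- bound for a noncentral minimal normal subgroup -/
def beta (m b : ℕ) : ℕ :=
  max ((max 2 m) ^ b) (max (2 * m * m !) ((b * (2 * (m !) ^ 2)) !))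

theorem one_le_beta (m b : ℕ) : 1 ≤ beta m b := by
  unfold beta
  refine le_trans ?_ (le_max_left _ _)
  exact Nat.one_le_pow _ _ (by positivity)

theorem minNormal_card_le [Finite Γ] (a : Γ) (ha : a * a = 1)
    (hncl : Subgroup.normalClosure ({a} : Set Γ) = ⊤) {N : Subgroup Γ} (hN : IsMinNormal N)
    (hNc : ¬ N ≤ Subgroup.center Γ) {m b : ℕ} (hm : (Ko a).ncard ≤ m) (hb : N.index ≤ b) :
    Nat.card N ≤ beta m b := by
  by_cases hab : ∀ u ∈ N, ∀ v ∈ N, u * v = v * u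
  · obtain ⟨p, hp, hexp⟩ := abelian_elementary hN hab
    have h1 := abelian_card_le hN hab hp hexp hb
    have h2 := abelian_prime_le a ha hncl hN hNc hab hp hexp
    have h3 : p ≤ max 2 m := le_trans h2 (max_le_max le_rfl hm)
    calc Nat.card N ≤ p ^ b := h1
      _ ≤ (max 2 m) ^ b := Nat.pow_le_pow_left h3 b
      _ ≤ beta m b := le_max_left _ _
  · have hC := inf_centralizer_eq_bot hN hab
    have hNZ : N ⊓ Subgroup.center Γ = ⊥ := by
      rw [eq_bot_iff, ← hC]
      exact inf_le_inf_left _ (Subgroup.center_le_centralizer _)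
    have hc := card_centralizer_le a ha hncl hNZ
    have hc' : Nat.card ↥(N ⊓ Subgroup.centralizer ({a} : Set Γ)) ≤ m ! :=
      le_trans hc (Nat.factorial_le hm)
    rcases bf_dichotomy a ha hN.1 with h | ⟨z, hz, hz1, h⟩
    · calc Nat.card N
          ≤ 2 * (Ko a).ncard * Nat.card ↥(N ⊓ Subgroup.centralizer ({a} : Set Γ)) := h
        _ ≤ 2 * m * m ! := Nat.mul_le_mul (Nat.mul_le_mul le_rfl hm) hc'
        _ ≤ beta m b := le_trans (le_max_left _ _) (le_max_right _ _)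
    · set Cz := Subgroup.centralizer ({z} : Set Γ) with hCz
      have hle : N ⊓ Cz ≤ N := inf_le_left
      have e1 : (N ⊓ Cz).relIndex N * N.index = (N ⊓ Cz).index :=
        Subgroup.relIndex_mul_index hle
      have e2 : Nat.card ↥((N ⊓ Cz).subgroupOf N) * (N ⊓ Cz).relIndex N = Nat.card ↥N := by
        rw [Subgroup.relIndex]
        exact Subgroup.card_mul_index _
      have e3 : Nat.card ↥((N ⊓ Cz).subgroupOf N) = Nat.card ↥(N ⊓ Cz) :=
        Nat.card_congr (Subgroup.subgroupOfEquivOfLe hle).toEquiv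
      have hpos : 0 < Nat.card ↥(N ⊓ Cz) := Nat.card_pos
      have hrel : (N ⊓ Cz).relIndex N ≤ 2 * (m !) ^ 2 := by
        have h' : Nat.card ↥(N ⊓ Cz) * (N ⊓ Cz).relIndex N ≤
            Nat.card ↥(N ⊓ Cz) * (2 * (m !) ^ 2) := by
          rw [← e3, e2, e3]
          calc Nat.card ↥N ≤ 2 * (Nat.card ↥(N ⊓ Subgroup.centralizer ({a} : Set Γ))) ^ 2 *
                Nat.card ↥(N ⊓ Cz) := h
            _ ≤ 2 * (m !) ^ 2 * Nat.card ↥(N ⊓ Cz) :=
                Nat.mul_le_mul (Nat.mul_le_mul le_rfl (Nat.pow_le_pow_left hc' 2)) le_rfl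
            _ = Nat.card ↥(N ⊓ Cz) * (2 * (m !) ^ 2) := by ring
        exact Nat.le_of_mul_le_mul_left h' hpos
      have hidx : Cz.index ≤ b * (2 * (m !) ^ 2) := by
        have h1 : Cz.index ∣ (N ⊓ Cz).index := Subgroup.index_dvd_of_le inf_le_right
        have h2 : (N ⊓ Cz).index ≠ 0 := Subgroup.index_ne_zero_of_finite
        have h3 : Cz.index ≤ (N ⊓ Cz).index := Nat.le_of_dvd (Nat.pos_of_ne_zero h2) h1
        calc Cz.index ≤ (N ⊓ Cz).index := h3
          _ = (N ⊓ Cz).relIndex N * N.index := e1.symm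
          _ ≤ (2 * (m !) ^ 2) * b := Nat.mul_le_mul hrel hb
          _ = b * (2 * (m !) ^ 2) := by ring
      calc Nat.card N ≤ (b * (2 * (m !) ^ 2)) ! := small_class_bound hN hC hz hz1 hidx
        _ ≤ beta m b := le_trans (le_max_right _ _) (le_max_right _ _)

theorem centerless_card_le [Finite Γ] [Nontrivial Γ] (a : Γ) (ha : a * a = 1)
    (hncl : Subgroup.normalClosure ({a} : Set Γ) = ⊤) (hZ : Subgroup.center Γ = ⊥) {m b : ℕ}
    (hm : (Ko a).ncard ≤ m)
    (IH : ∀ (Δ : Type u) [Group Δ] [Finite Δ] (d : Δ), d * d = 1 →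
      Subgroup.normalClosure ({d} : Set Δ) = ⊤ → (Ko d).ncard ≤ m - 1 → Nat.card Δ ≤ b) :
    Nat.card Γ ≤ b * beta m b := by
  obtain ⟨N, hN⟩ := exists_minNormal (Γ := Γ)
  haveI := hN.1
  have hNc : ¬ N ≤ Subgroup.center Γ := by
    rw [hZ]
    intro h
    exact hN.2.1 (le_bot_iff.mp h)
  have hlt := strict a ha hncl hN hNc
  have hq : (Ko (QuotientGroup.mk a : Γ ⧸ N)).ncard ≤ m - 1 := by omega
  have hmk : (QuotientGroup.mk a : Γ ⧸ N) * (QuotientGroup.mk a : Γ ⧸ N) = 1 := by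
    rw [← QuotientGroup.mk_mul, ha, QuotientGroup.mk_one]
  have hcard := IH (Γ ⧸ N) (QuotientGroup.mk a) hmk (ncl_quotient a N hncl) hq
  have hidx : N.index ≤ b := by
    rw [Subgroup.index_eq_card]
    exact hcard
  have hNcard := minNormal_card_le a ha hncl hN hNc hm hidx
  calc Nat.card Γ = Nat.card N * N.index := (Subgroup.card_mul_index N).symm
    _ ≤ beta m b * b := Nat.mul_le_mul hNcard hidx
    _ = b * beta m b := Nat.mul_comm _ _

/-- the final bound -/
noncomputable def bigB (m b : ℕ) : ℕ :=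
  2 * (m * (Finset.range ((b * beta m b) ^ 2 + 1)).sup Subgroup.cardCommutatorBound)

theorem card_le_bigB [Finite Γ] (a : Γ) (ha : a * a = 1)
    (hncl : Subgroup.normalClosure ({a} : Set Γ) = ⊤) {m b : ℕ} (hb1 : 1 ≤ b)
    (hm : (Ko a).ncard ≤ m)
    (IH : ∀ (Δ : Type u) [Group Δ] [Finite Δ] (d : Δ), d * d = 1 →
      Subgroup.normalClosure ({d} : Set Δ) = ⊤ → (Ko d).ncard ≤ m - 1 → Nat.card Δ ≤ b) :
    Nat.card Γ ≤ bigB m b := by
  obtain ⟨n, hn⟩ := exists_ucs_center_bot (Γ := Γ)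
  set H := Subgroup.upperCentralSeries Γ n with hH
  have hHidx : H.index ≤ b * beta m b := by
    rw [Subgroup.index_eq_card]
    rcases subsingleton_or_nontrivial (Γ ⧸ H) with hs | hnt
    · rw [Nat.card_unique]
      exact Nat.mul_pos hb1 (one_le_beta m b)
    · have hmk : (QuotientGroup.mk a : Γ ⧸ H) * (QuotientGroup.mk a : Γ ⧸ H) = 1 := by
        rw [← QuotientGroup.mk_mul, ha, QuotientGroup.mk_one]
      exact centerless_card_le (QuotientGroup.mk a : Γ ⧸ H) hmk (ncl_quotient a H hncl) hn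
        (le_trans (ncard_quotient_le a ha H) hm) IH
  have hHK : ∀ w ∈ H, ∀ y ∈ Ko a, w * y = y * w := fun w hw y hy => ucs_comm a n hw hy
  have h1 := center_index_le a hHK hHidx
  have h2 : Nat.card (commutatorSet ↥(Subgroup.closure (Ko a))) ≤ (b * beta m b) ^ 2 :=
    le_trans card_commutatorSet_le (Nat.pow_le_pow_left h1 2)
  have h3 : Nat.card (commutator ↥(Subgroup.closure (Ko a))) ≤
      (Finset.range ((b * beta m b) ^ 2 + 1)).sup Subgroup.cardCommutatorBound := by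
    refine le_trans (Subgroup.card_commutator_le_of_finite_commutatorSet _) ?_
    exact Finset.le_sup (f := Subgroup.cardCommutatorBound)
      (Finset.mem_range.mpr (Nat.lt_succ_of_le h2))
  have h4 := card_le_mul_commutator a ha hncl
  have h5 := index_closure_Ko_le a ha hncl
  calc Nat.card Γ = Nat.card ↥(Subgroup.closure (Ko a)) * (Subgroup.closure (Ko a)).index :=
        (Subgroup.card_mul_index _).symm
    _ ≤ ((Ko a).ncard * Nat.card (commutator ↥(Subgroup.closure (Ko a)))) * 2 :=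
        Nat.mul_le_mul h4 h5
    _ ≤ (m * (Finset.range ((b * beta m b) ^ 2 + 1)).sup Subgroup.cardCommutatorBound) * 2 :=
        Nat.mul_le_mul (Nat.mul_le_mul hm h3) le_rfl
    _ = bigB m b := by unfold bigB; ring

theorem main : ∀ m : ℕ, ∃ B : ℕ, ∀ (Γ : Type) [Group Γ] [Finite Γ] (a : Γ), a * a = 1 →
    Subgroup.normalClosure ({a} : Set Γ) = ⊤ → (Ko a).ncard ≤ m → Nat.card Γ ≤ B := by
  intro m
  induction m with
  | zero =>
    refine ⟨0, ?_⟩
    intro Γ _ _ a _ _ h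
    exfalso
    have h1 : 0 < (Ko a).ncard :=
      (Set.ncard_pos (Set.toFinite _)).mpr ⟨1, one_mem_Ko a⟩
    omega
  | succ m ih =>
    obtain ⟨B, hB⟩ := ih
    refine ⟨bigB (m + 1) (max 1 B), ?_⟩
    intro Γ _ _ a ha hncl hm
    refine card_le_bigB a ha hncl (le_max_left _ _) hm ?_
    intro Δ _ _ d hd hdn hdm
    exact le_trans (hB Δ d hd hdn (by simpa using hdm)) (le_max_right _ _)

end Cfsg.Agent.Lib.Helper14.IA
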