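import Mathlib
import Cfsg.Agent.Lib.Helper14.IA.L00Basic
import Cfsg.Agent.Lib.Helper14.IA.L09NotComm
import Cfsg.Agent.S0199

set_option autoImplicit false

namespace Cfsg.Agent.Lib.Helper14.IA

open scoped Nat
open scoped Pointwise

variable {Γ : Type*} [Group Γ]

/-- an element of `N` inverted by `a` is a 2-element when `Ko a ∩ N` is trivial. -/
theorem L10.two_elt [Finite Γ] (a : Γ) {N : Subgroup Γ}
    (h : ¬ ∃ y ∈ Ko a, y ≠ 1 ∧ y ∈ N) {w : Γ} (hwN : w ∈ N) (hw : a * w * a⁻¹ = w⁻¹) :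
    ∃ k : ℕ, w ^ (2 ^ k) = 1 := by
  have ho : orderOf w ≠ 0 := (orderOf_pos w).ne'
  obtain ⟨k, m, hm, hkm⟩ := Nat.exists_eq_two_pow_mul_odd ho
  refine ⟨k, ?_⟩
  by_contra hne
  apply h
  refine ⟨w ^ (2 ^ k), ⟨?_, ?_⟩, hne, N.pow_mem hwN _⟩
  · have h2 : (2 ^ k) ∣ orderOf w := ⟨m, hkm⟩
    have h3 : orderOf (w ^ (2 ^ k)) = orderOf w / 2 ^ k :=
      orderOf_pow_of_dvd (by positivity) h2
    rw [h3, hkm, Nat.mul_div_cancel_left _ (by positivity)]
    exact hm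
  · rw [← conj_pow, hw, inv_pow]

/-- two involutions whose product is a 2-element generate a 2-group. -/
theorem L10.dih {G' : Type*} [Group G'] (a b : G') (ha : a * a = 1) (hb : b * b = 1) (k : ℕ)
    (hk : (b * a) ^ (2 ^ k) = 1) :
    IsPGroup 2 ↥(Subgroup.zpowers a ⊔ Subgroup.zpowers b) := by
  have hainv : a⁻¹ = a := inv_eq_of_mul_eq_one_left ha
  have hbinv : b⁻¹ = b := inv_eq_of_mul_eq_one_left hb
  have hC : IsPGroup 2 ↥(Subgroup.zpowers (b * a)) := by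
    rintro ⟨g, hg⟩
    obtain ⟨i, rfl⟩ := Subgroup.mem_zpowers_iff.mp hg
    refine ⟨k, Subtype.ext ?_⟩
    simp only [Subgroup.coe_pow, Subgroup.coe_one]
    rw [← zpow_natCast, ← zpow_mul, mul_comm, zpow_mul, zpow_natCast, hk, one_zpow]
  have hA : IsPGroup 2 ↥(Subgroup.zpowers a) := by
    rintro ⟨g, hg⟩
    obtain ⟨i, rfl⟩ := Subgroup.mem_zpowers_iff.mp hg
    refine ⟨1, Subtype.ext ?_⟩
    simp only [Subgroup.coe_pow, Subgroup.coe_one]
    rw [← zpow_natCast, ← zpow_mul, mul_comm, zpow_mul, zpow_natCast]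
    have : a ^ (2 ^ 1) = 1 := by rw [pow_one, pow_two, ha]
    rw [this, one_zpow]
  have hnorm : Subgroup.zpowers a ≤ Subgroup.normalizer ((Subgroup.zpowers (b * a) : Subgroup G') : Set G') := by
    rw [Subgroup.zpowers_le]
    rw [Subgroup.mem_normalizer_iff]
    have key : a * (b * a) * a⁻¹ = (b * a)⁻¹ := by
      rw [mul_inv_rev, hainv, hbinv]
      have : a * (b * a) * a = a * b * (a * a) := by group
      rw [this, ha, mul_one]
    intro x
    constructor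
    · intro hx
      obtain ⟨i, rfl⟩ := Subgroup.mem_zpowers_iff.mp hx
      rw [← conj_zpow, key]
      exact Subgroup.zpow_mem _ (Subgroup.inv_mem _ (Subgroup.mem_zpowers _)) _
    · intro hx
      obtain ⟨i, hi⟩ := Subgroup.mem_zpowers_iff.mp hx
      have : x = a⁻¹ * (a * x * a⁻¹) * a := by group
      rw [this, ← hi]
      have key2 : a⁻¹ * (b * a) * a = (b * a)⁻¹ := by
        rw [mul_inv_rev, hainv, hbinv]
        have : a * (b * a) * a = a * b * (a * a) := by group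
        rw [this, ha, mul_one]
      have : a⁻¹ * (b * a) ^ i * a = (a⁻¹ * (b * a) * a) ^ i := by
        have := conj_zpow (a := a⁻¹) (b := b * a) (i := i)
        rw [inv_inv] at this
        exact this.symm
      rw [this, key2]
      exact Subgroup.zpow_mem _ (Subgroup.inv_mem _ (Subgroup.mem_zpowers _)) _
  have hsup : IsPGroup 2 ↥(Subgroup.zpowers (b * a) ⊔ Subgroup.zpowers a) :=
    IsPGroup.to_sup_of_normal_left' hC hA hnorm
  refine hsup.to_le ?_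
  rw [sup_le_iff]
  refine ⟨le_sup_right, ?_⟩
  rw [Subgroup.zpowers_le]
  have hmem : (b * a) * a⁻¹ ∈ Subgroup.zpowers (b * a) ⊔ Subgroup.zpowers a :=
    Subgroup.mul_mem _ (Subgroup.mem_sup_left (Subgroup.mem_zpowers _))
      (Subgroup.mem_sup_right (Subgroup.inv_mem _ (Subgroup.mem_zpowers _)))
  rwa [mul_inv_cancel_right] at hmem

/-- a normal 2-subgroup of `N` lies in any Sylow 2-subgroup of `N`. -/
theorem L10.le_sylow (N : Subgroup Γ) (S : Sylow 2 ↥N) (R : Subgroup Γ) (hRN : R ≤ N)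
    (hR : IsPGroup 2 ↥R) (hnorm : ∀ n ∈ N, ∀ r ∈ R, n * r * n⁻¹ ∈ R) :
    R ≤ (S : Subgroup ↥N).map N.subtype := by
  have hR0 : IsPGroup 2 ↥(R.subgroupOf N) := hR.comap_subtype
  have : (R.subgroupOf N).Normal := by
    refine ⟨fun x hx g => ?_⟩
    rw [Subgroup.mem_subgroupOf] at hx ⊢
    simpa using hnorm g.1 g.2 x.1 hx
  have hsup : IsPGroup 2 ↥((S : Subgroup ↥N) ⊔ R.subgroupOf N) :=
    IsPGroup.to_sup_of_normal_right S.isPGroup' hR0
  have hEq := S.is_maximal' hsup le_sup_left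
  intro r hr
  refine ⟨⟨r, hRN hr⟩, ?_, rfl⟩
  have : (⟨r, hRN hr⟩ : ↥N) ∈ (S : Subgroup ↥N) ⊔ R.subgroupOf N :=
    Subgroup.mem_sup_right (by rw [Subgroup.mem_subgroupOf]; exact hr)
  rw [hEq] at this
  exact this

theorem odd_or_twoGroup [Finite Γ] (a : Γ) (ha : a * a = 1)
    (hncl : Subgroup.normalClosure ({a} : Set Γ) = ⊤) {N : Subgroup Γ} (hN : IsMinNormal N)
    (hNc : ¬ N ≤ Subgroup.center Γ) :
    (∃ y ∈ Ko a, y ≠ 1 ∧ y ∈ N) ∨ IsPGroup 2 ↥N := by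
  by_cases h : ∃ y ∈ Ko a, y ≠ 1 ∧ y ∈ N
  · exact Or.inl h
  right
  have hNn : N.Normal := hN.1
  have hainv : a⁻¹ = a := inv_eq_of_mul_eq_one_left ha
  -- every commutator `v a v⁻¹ a⁻¹`, `v ∈ N`, is a 2-element of `N` inverted by `a`
  have hwN : ∀ v ∈ N, v * a * v⁻¹ * a⁻¹ ∈ N := by
    intro v hv
    have h1 : a * v⁻¹ * a⁻¹ ∈ N := hNn.conj_mem _ (N.inv_mem hv) a
    have : v * a * v⁻¹ * a⁻¹ = v * (a * v⁻¹ * a⁻¹) := by group
    rw [this]
    exact N.mul_mem hv h1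
  have hwinv : ∀ v : Γ, a * (v * a * v⁻¹ * a⁻¹) * a⁻¹ = (v * a * v⁻¹ * a⁻¹)⁻¹ := by
    intro v
    simp only [mul_inv_rev, inv_inv, hainv]
    have : a * (v * a * v⁻¹ * a) * a = a * v * a * v⁻¹ * (a * a) := by group
    rw [this, ha, mul_one]
    group
  have hw2 : ∀ v ∈ N, ∃ k : ℕ, (v * a * v⁻¹ * a⁻¹) ^ (2 ^ k) = 1 := fun v hv =>
    L10.two_elt a h (hwN v hv) (hwinv v)
  -- the subgroup `H = N⟨a⟩`
  set H : Subgroup Γ := N ⊔ Subgroup.zpowers a with hH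
  have haH : a ∈ H := Subgroup.mem_sup_right (Subgroup.mem_zpowers a)
  have hNH : N ≤ H := le_sup_left
  set ah : ↥H := ⟨a, haH⟩ with hah
  have hah2 : ah * ah = 1 := Subtype.ext (by simpa using ha)
  have hX : IsPGroup 2 ↥(Subgroup.zpowers ah) := by
    rintro ⟨g, hg⟩
    obtain ⟨i, rfl⟩ := Subgroup.mem_zpowers_iff.mp hg
    refine ⟨1, Subtype.ext ?_⟩
    simp only [Subgroup.coe_pow, Subgroup.coe_one]
    rw [← zpow_natCast, ← zpow_mul, mul_comm, zpow_mul, zpow_natCast]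
    have : ah ^ (2 ^ 1) = 1 := by rw [pow_one, pow_two, hah2]
    rw [this, one_zpow]
  have hconj : ∀ g : ↥H, IsPGroup 2
      ↥(Subgroup.zpowers ah ⊔ (Subgroup.zpowers ah).map (MulAut.conj g).toMonoidHom) := by
    intro g
    rw [MonoidHom.map_zpowers]
    have hgmem : (g : Γ) ∈ (N : Set Γ) * (Subgroup.zpowers a : Set Γ) := by
      rw [← Subgroup.normal_mul]
      exact g.2
    obtain ⟨v, hv, z, hz, hvz⟩ := Set.mem_mul.mp hgmem
    obtain ⟨i, rfl⟩ := Subgroup.mem_zpowers_iff.mp hz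
    obtain ⟨k, hk⟩ := hw2 v hv
    have hcomm : a ^ i * a * (a ^ i)⁻¹ = a := by
      have : Commute (a ^ i) a := (Commute.refl a).zpow_left i
      rw [this.eq, mul_inv_cancel_right]
    have hval : ((MulAut.conj g).toMonoidHom ah : ↥H) = g * ah * g⁻¹ := rfl
    rw [hval]
    refine L10.dih ah (g * ah * g⁻¹) hah2 ?_ k ?_
    · have : g * ah * g⁻¹ * (g * ah * g⁻¹) = g * (ah * ah) * g⁻¹ := by group
      rw [this, hah2, mul_one, mul_inv_cancel]
    · apply Subtype.ext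
      simp only [Subgroup.coe_pow, Subgroup.coe_mul, Subgroup.coe_inv, Subgroup.coe_one, hah]
      rw [← hvz]
      have : v * a ^ i * a * (v * a ^ i)⁻¹ * a = v * (a ^ i * a * (a ^ i)⁻¹) * v⁻¹ * a := by group
      rw [this, hcomm]
      have h3 := hk
      rw [hainv] at h3
      exact h3
  obtain ⟨P, hPn, hP2, hXP⟩ := Cfsg.Agent.S0199.result (Subgroup.zpowers ah) hX hconj
  have hahP : ah ∈ P := hXP (Subgroup.mem_zpowers ah)
  -- `Q = P ∩ N` as a subgroup of `Γ`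
  set Q : Subgroup Γ := P.map H.subtype ⊓ N with hQ
  have hQ2 : IsPGroup 2 ↥Q := (hP2.map H.subtype).to_le inf_le_left
  have hwQ : ∀ v ∈ N, v * a * v⁻¹ * a⁻¹ ∈ Q := by
    intro v hv
    refine ⟨?_, hwN v hv⟩
    set vh : ↥H := ⟨v, hNH hv⟩ with hvh
    have h1 : vh * ah * vh⁻¹ ∈ P := hPn.conj_mem ah hahP vh
    have h2 : vh * ah * vh⁻¹ * ah⁻¹ ∈ P := P.mul_mem h1 (P.inv_mem hahP)
    exact ⟨vh * ah * vh⁻¹ * ah⁻¹, h2, rfl⟩
  have hQnorm : ∀ n ∈ N, ∀ q ∈ Q, n * q * n⁻¹ ∈ Q := by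
    intro n hn q hq
    obtain ⟨⟨ph, hph, hpq⟩, hqN⟩ := hq
    refine ⟨?_, hNn.conj_mem q hqN n⟩
    set nh : ↥H := ⟨n, hNH hn⟩ with hnh
    refine ⟨nh * ph * nh⁻¹, hPn.conj_mem ph hph nh, ?_⟩
    rw [← hpq]
    rfl
  -- the normal closure of `Q` is `N`
  obtain ⟨v0, hv0, hv0a⟩ := exists_not_comm a hncl hN hNc
  have hTle : Subgroup.normalClosure (Q : Set Γ) ≤ N :=
    Subgroup.normalClosure_le_normal (fun q hq => hq.2)
  have hTne : Subgroup.normalClosure (Q : Set Γ) ≠ ⊥ := by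
    intro hbot
    have h1 : v0 * a * v0⁻¹ * a⁻¹ ∈ Subgroup.normalClosure (Q : Set Γ) :=
      Subgroup.subset_normalClosure (hwQ v0 hv0)
    rw [hbot, Subgroup.mem_bot] at h1
    apply hv0a
    have : a * v0 = (v0 * a * v0⁻¹ * a⁻¹)⁻¹ * (v0 * a) := by group
    rw [this, h1, inv_one, one_mul]
  have hTN : Subgroup.normalClosure (Q : Set Γ) = N := by
    rcases hN.2.2 _ Subgroup.normalClosure_normal hTle with h1 | h1
    · exact absurd h1 hTne
    · exact h1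
  -- a Sylow 2-subgroup of `N` contains all conjugates of `Q`
  obtain ⟨S⟩ : Nonempty (Sylow 2 ↥N) := inferInstance
  have hTS : Subgroup.normalClosure (Q : Set Γ) ≤ (S : Subgroup ↥N).map N.subtype := by
    unfold Subgroup.normalClosure
    rw [Subgroup.closure_le]
    intro x hx
    obtain ⟨q, hq, hqx⟩ := Group.mem_conjugatesOfSet_iff.mp hx
    obtain ⟨c, hc⟩ := isConj_iff.mp hqx
    have hR : Q.map (MulAut.conj c).toMonoidHom ≤ (S : Subgroup ↥N).map N.subtype := by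
      apply L10.le_sylow N S
      · rintro _ ⟨q', hq', rfl⟩
        exact hNn.conj_mem q' hq'.2 c
      · exact hQ2.map _
      · rintro n hn _ ⟨q', hq', rfl⟩
        have hn' : c⁻¹ * n * c ∈ N := by
          have := hNn.conj_mem n hn c⁻¹
          rwa [inv_inv] at this
        refine ⟨(c⁻¹ * n * c) * q' * (c⁻¹ * n * c)⁻¹, hQnorm _ hn' q' hq', ?_⟩
        simp only [MulEquiv.coe_toMonoidHom, MulAut.conj_apply]
        group
    apply hR
    exact ⟨q, hq, by rw [← hc]; rfl⟩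
  rw [hTN] at hTS
  exact (S.isPGroup'.map N.subtype).to_le hTS

end Cfsg.Agent.Lib.Helper14.IA
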