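import Mathlib
import Cfsg.Agent.Lib.Helper14.IA.L00Basic
import Cfsg.Agent.Lib.Helper14.IA.L20UcsKo

set_option autoImplicit false

namespace Cfsg.Agent.Lib.Helper14.IA

open scoped Nat

variable {Γ : Type*} [Group Γ]

theorem ucs_comm (a : Γ) (n : ℕ) {w : Γ} (hw : w ∈ Subgroup.upperCentralSeries Γ n) {y : Γ}
    (hy : y ∈ Ko a) : w * y = y * w := by
  induction n generalizing w y with
  | zero =>
    rw [Subgroup.upperCentralSeries_zero, Subgroup.mem_bot] at hw
    rw [hw, one_mul, mul_one]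
  | succ n ih =>
    have hzn : w * y * w⁻¹ * y⁻¹ ∈ Subgroup.upperCentralSeries Γ n := by
      have := (Subgroup.mem_upperCentralSeries_succ_iff.mp hw) y
      rwa [commutatorElement_def] at this
    have hcn : w⁻¹ * a * w⁻¹⁻¹ * a⁻¹ ∈ Subgroup.upperCentralSeries Γ n := by
      have := (Subgroup.mem_upperCentralSeries_succ_iff.mp (Subgroup.inv_mem _ hw)) a
      rwa [commutatorElement_def] at this
    have hzy : (w * y * w⁻¹ * y⁻¹) * y = y * (w * y * w⁻¹ * y⁻¹) := ih hzn hy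
    have hcy : (w⁻¹ * a * w⁻¹⁻¹ * a⁻¹) * y = y * (w⁻¹ * a * w⁻¹⁻¹ * a⁻¹) := ih hcn hy
    generalize hz : w * y * w⁻¹ * y⁻¹ = z at hzn hzy
    generalize hc : w⁻¹ * a * w⁻¹⁻¹ * a⁻¹ = c at hcn hcy
    -- odd order
    have hord : z ^ (orderOf y) = 1 := by
      have h1 : (z * y) ^ (orderOf y) = 1 := by
        have e : z * y = w * y * w⁻¹ := by rw [← hz]; group
        rw [e, conj_pow, pow_orderOf_eq_one, mul_one, mul_inv_cancel]
      rw [(show Commute z y from hzy).mul_pow, pow_orderOf_eq_one, mul_one] at h1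
      exact h1
    have hodd : Odd (orderOf z) := Odd.of_dvd_nat hy.1 (orderOf_dvd_of_pow_eq_one hord)
    -- inverted
    have hcy' : c * y⁻¹ * c⁻¹ = y⁻¹ := by
      have : Commute c y⁻¹ := (show Commute c y from hcy).inv_right
      rw [this.eq, mul_assoc, mul_inv_cancel, mul_one]
    have hzy' : y⁻¹ * z⁻¹ * y = z⁻¹ := by
      have : Commute z⁻¹ y := (show Commute z y from hzy).inv_left
      rw [mul_assoc, this.eq, ← mul_assoc, inv_mul_cancel, one_mul]
    have hinv : a * z * a⁻¹ = z⁻¹ := by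
      have hyinv : a * y * a⁻¹ = y⁻¹ := hy.2
      have hw' : a * w * a⁻¹ = w * c := by rw [← hc]; group
      calc a * z * a⁻¹
          = (a * w * a⁻¹) * (a * y * a⁻¹) * (a * w * a⁻¹)⁻¹ * (a * y * a⁻¹)⁻¹ := by
            rw [← hz]; group
        _ = (w * c) * y⁻¹ * (w * c)⁻¹ * y⁻¹⁻¹ := by rw [hyinv, hw']
        _ = w * (c * y⁻¹ * c⁻¹) * w⁻¹ * y := by group
        _ = w * y⁻¹ * w⁻¹ * y := by rw [hcy']
        _ = y⁻¹ * (w * y * w⁻¹ * y⁻¹)⁻¹ * y := by group
        _ = z⁻¹ := by rw [hz, hzy']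
    have hz1 : z = 1 := Ko_inter_ucs a n hzn ⟨hodd, hinv⟩
    rw [hz1] at hz
    have := mul_inv_eq_one.mp hz
    exact mul_inv_eq_iff_eq_mul.mp this

end Cfsg.Agent.Lib.Helper14.IA
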