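import Mathlib
import Cfsg.Agent.Lib.Helper14.IA.Defs
import Cfsg.Agent.S3927

set_option autoImplicit false

namespace Cfsg.Agent.Lib.Helper14.IA

theorem aa_mul_self {G : Type} [Group G] (α : MulAut G) (hα : orderOf α = 2) :
    Cfsg.Agent.S3927.aa α * Cfsg.Agent.S3927.aa α = 1 := by
  unfold Cfsg.Agent.S3927.aa
  rw [← map_mul]
  have h : Cfsg.Agent.S3927.gα α * Cfsg.Agent.S3927.gα α = 1 := by
    apply Subtype.ext
    show α * α = 1
    have := pow_orderOf_eq_one α
    rw [hα, pow_two] at this
    exact this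
  rw [h, map_one]

namespace L27

theorem zpow_sq {G : Type} [Group G] (α : MulAut G) (hα : orderOf α = 2)
    (z : ↥(Subgroup.zpowers α)) : z * z = 1 := by
  obtain ⟨i, hi⟩ := Subgroup.mem_zpowers_iff.mp z.2
  apply Subtype.ext
  show (z : MulAut G) * (z : MulAut G) = 1
  rw [← hi, ← zpow_add, ← two_mul, zpow_mul]
  have h2 : α ^ (2 : ℤ) = 1 := by
    have := pow_orderOf_eq_one α
    rw [hα] at this
    exact_mod_cast this
  rw [h2, one_zpow]

theorem right_eq_one {G : Type} [Group G] (α : MulAut G) (hα : orderOf α = 2)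
    (x : Cfsg.Agent.S3927.Gam α) (hx : Odd (orderOf x)) : x.right = 1 := by
  obtain ⟨j, hj⟩ := hx
  have h1 : x ^ (2 * j + 1) = 1 := by rw [← hj]; exact pow_orderOf_eq_one x
  have h2 : (SemidirectProduct.rightHom x : ↥(Subgroup.zpowers α)) ^ (2 * j + 1) = 1 := by
    rw [← map_pow, h1, map_one]
  rw [SemidirectProduct.rightHom_eq_right] at h2
  have h3 : x.right ^ 2 = 1 := by rw [pow_two]; exact zpow_sq α hα x.right
  rw [pow_succ, pow_mul, h3, one_pow, one_mul] at h2
  exact h2

end L27

theorem ncard_Ko_aa_le {G : Type} [Group G] [Finite G] (α : MulAut G) (hα : orderOf α = 2) :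
    (Ko (Cfsg.Agent.S3927.aa α)).ncard ≤
      Nat.card {g : G // Odd (orderOf g) ∧ α g = g⁻¹} := by
  classical
  rw [← Nat.card_coe_set_eq]
  have key : ∀ x : Cfsg.Agent.S3927.Gam α, x ∈ Ko (Cfsg.Agent.S3927.aa α) →
      x = SemidirectProduct.inl x.left ∧ Odd (orderOf x.left) ∧ α x.left = (x.left)⁻¹ := by
    intro x hx
    have hr := L27.right_eq_one α hα x hx.1
    have hxl : x = SemidirectProduct.inl x.left := by
      apply SemidirectProduct.ext
      · simp
      · simp [hr]
    refine ⟨hxl, ?_, ?_⟩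
    · have : orderOf x = orderOf x.left := by
        conv_lhs => rw [hxl]
        exact orderOf_injective _ SemidirectProduct.inl_injective x.left
      rw [← this]; exact hx.1
    · have h2 := hx.2
      rw [hxl, Cfsg.Agent.S3927.aa_conj, ← map_inv] at h2
      exact SemidirectProduct.inl_injective h2
  refine Nat.card_le_card_of_injective
    (fun x : ↥(Ko (Cfsg.Agent.S3927.aa α)) =>
      (⟨x.1.left, (key x.1 x.2).2⟩ : {g : G // Odd (orderOf g) ∧ α g = g⁻¹})) ?_
  intro x y hxy
  have h1 : x.1.left = y.1.left := congrArg Subtype.val hxy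
  apply Subtype.ext
  rw [(key x.1 x.2).1, (key y.1 y.2).1, h1]

theorem card_le_card_Gam {G : Type} [Group G] [Finite G] (α : MulAut G) :
    Nat.card G ≤ Nat.card (Cfsg.Agent.S3927.Gam α) := by
  classical
  have : Finite (Cfsg.Agent.S3927.Gam α) :=
    Finite.of_equiv _ (SemidirectProduct.equivProd (φ := (Subgroup.zpowers α).subtype)).symm
  exact Nat.card_le_card_of_injective _ (SemidirectProduct.inl_injective
    (φ := (Subgroup.zpowers α).subtype))

end Cfsg.Agent.Lib.Helper14.IA
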